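import Cfsg.Agent.ESix.StepChecks

/-!
# Every isometry of the form is a product of root elements and a diagonal isometry

The coordinates are fixed one after another.  If the lines of the coordinates in `S` are fixed, the
image `v` of the next one `f` is singular and some of its coordinates vanish; a monomial element
puts a nonzero coordinate at `f`, root elements clear its sixteen neighbours, and the other
coordinates then vanish.
-/

set_option autoImplicit false
set_option maxHeartbeats 2000000

namespace CfsgLib.ESix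

open Cfsg.Lie
open scoped MatrixGroups Matrix

/-! ### Values -/

variable {F : Type*} [Field F]

theorem bv_apply (a b : ℕ) (ha : a < 27) (hb : b < 27) :
    bv F a (pt b) = if b = a then 1 else 0 := by
  rw [bv, Pi.single_apply]
  by_cases h : b = a
  · simp [h]
  · rw [if_neg h, if_neg fun e => h (pt_inj hb ha e)]

theorem bF_side (s l : ℕ) (hs : s < 27) (hl : l < 27) (v : I27 → F) :
    bF (bv F s) (bv F l) v = evalL v (side s l) := by
  have hsum : ∀ (L : List (ℕ × ℕ × ℕ × ℤ)) (f : ℕ × ℕ × ℕ × ℤ → List (ℤ × ℕ)),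
      evalL v (L.flatMap f) = (L.map fun e => evalL v (f e)).sum := by
    intro L f
    induction L with
    | nil => rfl
    | cons e L ih => simp [evalL] at ih ⊢; rw [ih]
  rw [side, hsum, bF]
  refine congrArg List.sum (List.map_congr_left fun e he => ?_)
  obtain ⟨a, b, c⟩ := tris_lt e he
  simp only [term, bv_apply _ _ hs a, bv_apply _ _ hs b, bv_apply _ _ hs c, bv_apply _ _ hl a,
    bv_apply _ _ hl b, bv_apply _ _ hl c]
  obtain ⟨d1, d2, d3⟩ := tris_distinct e he
  simp only [List.filter_cons, List.filter_nil, Bool.and_eq_true, beq_iff_eq]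
  by_cases ha : e.1 = s <;> by_cases hb : e.2.1 = s <;> by_cases hc : e.2.2.1 = s <;>
    by_cases ha' : e.1 = l <;> by_cases hb' : e.2.1 = l <;> by_cases hc' : e.2.2.1 = l <;>
    first
      | omega
      | (have : s ≠ l := by omega
         simp [evalL, ha, hb, hc, ha', hb', hc', this, this.symm])
      | simp [evalL, ha, hb, hc, ha', hb', hc']

theorem bF_swap (u v w : I27 → F) : bF u w v = bF u v w :=
  congrArg List.sum (List.map_congr_left fun e _ => by simp only [term]; ring)

theorem bF_smul_left (c : F) (u v w : I27 → F) : bF (c • u) v w = c * bF u v w := by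
  simp only [bF, ← sum_map_smul]
  refine congrArg List.sum (List.map_congr_left fun e _ => ?_)
  simp only [term, Pi.smul_apply, smul_eq_mul]; ring

theorem bF_smul_mid (c : F) (u v w : I27 → F) : bF u (c • v) w = c * bF u v w := by
  simp only [bF, ← sum_map_smul]
  refine congrArg List.sum (List.map_congr_left fun e _ => ?_)
  simp only [term, Pi.smul_apply, smul_eq_mul]; ring

theorem bF_smul_right (c : F) (u v w : I27 → F) : bF u v (c • w) = c * bF u v w := by
  rw [bF_swap, bF_smul_mid, bF_swap]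

theorem bF_add_right (u v w w' : I27 → F) : bF u v (w + w') = bF u v w + bF u v w' := by
  simp only [bF, ← sum_map_add]
  refine congrArg List.sum (List.map_congr_left fun e _ => ?_)
  simp only [term, Pi.add_apply]; ring

theorem bF_eq_zero {u v : I27 → F} (h : ∀ l < 27, bF u v (bv F l) = 0) (w : I27 → F) :
    bF u v w = 0 := by
  let L : (I27 → F) →ₗ[F] F :=
    { toFun := bF u v
      map_add' := bF_add_right u v
      map_smul' := fun c w => by simp [bF_smul_right] }
  have : L = 0 := LinearMap.pi_ext fun i x => by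
    have e : (Pi.single i x : I27 → F) = x • bv F (ci i) := by
      rw [bv, pt_ci]
      funext j
      rcases eq_or_ne j i with rfl | hj <;> simp [*]
    rw [e]
    simp [map_smul, L, h _ (ci_lt i), -LinearMap.zero_apply]
    simp
  exact LinearMap.congr_fun this w

theorem dF_grad (l : ℕ) (hl : l < 27) (v : I27 → F) :
    dF v (bv F l) = ((grad l).map fun q => (q.1 : F) * (v (pt q.2.1) * v (pt q.2.2))).sum := by
  have hsum : ∀ (L : List (ℕ × ℕ × ℕ × ℤ)) (f : ℕ × ℕ × ℕ × ℤ → List (ℤ × ℕ × ℕ)),
      ((L.flatMap f).map fun q => (q.1 : F) * (v (pt q.2.1) * v (pt q.2.2))).sum =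
        (L.map fun e => ((f e).map fun q => (q.1 : F) * (v (pt q.2.1) * v (pt q.2.2))).sum).sum := by
    intro L f
    induction L with
    | nil => rfl
    | cons e L ih => simp only [List.flatMap_cons, List.map_append, List.sum_append, List.map_cons,
        List.sum_cons, ih]
  rw [grad, hsum, dF]
  refine congrArg List.sum (List.map_congr_left fun e he => ?_)
  obtain ⟨a, b, c⟩ := tris_lt e he
  simp only [term, bv_apply _ _ hl a, bv_apply _ _ hl b, bv_apply _ _ hl c]
  obtain ⟨d1, d2, d3⟩ := tris_distinct e he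
  simp only [List.filter_cons, List.filter_nil, beq_iff_eq]
  by_cases ha' : e.1 = l <;> by_cases hb' : e.2.1 = l <;> by_cases hc' : e.2.2.1 = l <;>
    first
      | omega
      | (simp [ha', hb', hc']; try ring)

theorem dF_bv (a : ℕ) (ha : a < 27) (x : I27 → F) : dF (bv F a) x = 0 := by
  refine List.sum_eq_zero fun z hz => ?_
  obtain ⟨e, he, rfl⟩ := List.mem_map.1 hz
  obtain ⟨l1, l2, l3⟩ := tris_lt e he
  obtain ⟨d1, d2, d3⟩ := tris_distinct e he
  simp only [term, bv_apply _ _ ha l1, bv_apply _ _ ha l2, bv_apply _ _ ha l3]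
  by_cases h1 : e.1 = a <;> by_cases h2 : e.2.1 = a <;> by_cases h3 : e.2.2.1 = a <;>
    first
      | omega
      | simp [h1, h2, h3]

theorem sideIs_eval {s l k : ℕ} (h : sideIs s l k = true) (v : I27 → F) :
    evalL v (side s l) = v (pt k) ∨ evalL v (side s l) = -v (pt k) := by
  simp only [sideIs, Bool.or_eq_true, beq_iff_eq] at h
  rcases h with h | h <;> simp [h, evalL]

/-! ### Isometries -/

theorem mv_mul (g h : GL I27 F) (v : I27 → F) :
    (g * h).val *ᵥ v = g.val *ᵥ (h.val *ᵥ v) := by simp [Matrix.mulVec_mulVec]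

theorem mv_inv (g : GL I27 F) (v : I27 → F) : g.val *ᵥ (g⁻¹.val *ᵥ v) = v := by
  rw [← mv_mul, mul_inv_cancel]; simp

theorem univ_invariant {t₀ : F} (h0 : t₀ ≠ 0) (h1 : t₀ ≠ 1) {g : GL I27 F} (hg : g ∈ E6univ F) :
    (∀ v x, dF (g.val *ᵥ v) (g.val *ᵥ x) = dF v x) ∧
      ∀ u v x, bF (g.val *ᵥ u) (g.val *ᵥ v) (g.val *ᵥ x) = bF u v x := by
  have hD := fun v x => dF_invariant (fun y => g.val *ᵥ y) (Matrix.mulVec_add _)
    (fun c a => Matrix.mulVec_smul _ c a)
    (fun y => by rw [← cubicT_eq, ← cubicT_eq]; exact hg y) h0 h1 v x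
  exact ⟨hD, bF_invariant _ (Matrix.mulVec_add _) hD⟩

/-- The lines of a list of coordinates are fixed. -/
def Fixes (g : GL I27 F) (S : List ℕ) : Prop :=
  ∀ s ∈ S, ∃ c : F, c ≠ 0 ∧ g.val *ᵥ bv F s = c • bv F s

theorem Fixes.mul {g h : GL I27 F} {S : List ℕ} (hg : Fixes g S) (hh : Fixes h S) :
    Fixes (g * h) S := fun s hs => by
  obtain ⟨a, ha, ea⟩ := hg s hs
  obtain ⟨b, hb, eb⟩ := hh s hs
  exact ⟨b * a, mul_ne_zero hb ha, by rw [mv_mul, eb, Matrix.mulVec_smul, ea, smul_smul]⟩

theorem img_spec {r : ℕ} (hr : r < 72) {a : ℕ} (ha : a < 27) {c : F} (hc : c ≠ 0) :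
    img r a < 27 ∧ ∃ d : F, d ≠ 0 ∧ (nE r c).val *ᵥ bv F a = d • bv F (img r a) := by
  have hne : ∀ {r : ℕ} {e : ℕ × ℕ × ℤ}, e ∈ er r → (e.2.2 : F) ≠ 0 := fun he h0 => by
    have := sign_sq (R := F) he
    simp [h0] at this
  unfold img
  cases h : (er r).find? fun e => e.2.1 == a with
  | some e =>
    have he := List.mem_of_find?_eq_some h
    have := List.find?_some h
    simp only [beq_iff_eq] at this
    subst this
    exact ⟨(mem_lt he).1, _, mul_ne_zero hc (hne he), nE_source he hc⟩
  | none =>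
    cases h' : (er (71 - r)).find? fun e => e.2.1 == a with
    | some e =>
      have he := List.mem_of_find?_eq_some h'
      have := List.find?_some h'
      simp only [beq_iff_eq] at this
      subst this
      refine ⟨(mem_lt he).1, _, neg_ne_zero.2 (mul_ne_zero (inv_ne_zero hc) (hne he)), ?_⟩
      have ho := opp_mem he
      rw [show 71 - (71 - r) = r by omega] at ho
      exact nE_target ho hc
    | none =>
      refine ⟨ha, 1, one_ne_zero, ?_⟩
      rw [one_smul]
      refine nE_fixed c ha (fun e he e' => ?_) (fun e he e' => ?_)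
      · simpa [e'] using List.find?_eq_none.1 h e he
      · simpa [e'] using List.find?_eq_none.1 h' e he

theorem zero_of_zeroable {g : GL I27 F} {S : List ℕ} {f k : ℕ} (hf : f < 27) (hk : k < 27)
    (hS : ∀ s ∈ S, s < 27)
    (hinv : ∀ u v x, bF (g.val *ᵥ u) (g.val *ᵥ v) (g.val *ᵥ x) = bF u v x) (hg : Fixes g S)
    (h : zeroable S f k = true) : (g.val *ᵥ bv F f) (pt k) = 0 := by
  simp only [zeroable, List.any_eq_true, Bool.or_eq_true, Bool.and_eq_true, List.isEmpty_iff,
    List.mem_range, Bool.not_eq_true', beq_eq_false_iff_ne, ne_eq] at h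
  obtain ⟨s, hs, h⟩ := h
  obtain ⟨c, hc, e⟩ := hg s hs
  rcases h with ⟨h1, l, hl, h2⟩ | ⟨s', hs', h2, hkf⟩
  · have z : bF (bv F s) (g.val *ᵥ bv F f) (bv F l) = 0 := by
      have := hinv (bv F s) (bv F f) (g⁻¹.val *ᵥ bv F l)
      rw [e, mv_inv, bF_smul_left, bF_side s f (hS s hs) hf, h1] at this
      simpa [evalL, hc] using this
    rw [bF_swap, bF_side s l (hS s hs) hl] at z
    rcases sideIs_eval h2 (g.val *ᵥ bv F f) with e' | e' <;> simpa [e'] using z
  · obtain ⟨c', hc', e'⟩ := hg s' hs'
    have := hinv (bv F s) (bv F s') (bv F f)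
    rw [e, e', bF_smul_left, bF_smul_mid, bF_side s s' (hS s hs) (hS s' hs'),
      bF_side s s' (hS s hs) (hS s' hs')] at this
    rcases sideIs_eval h2 (g.val *ᵥ bv F f) with e1 | e1 <;>
      rcases sideIs_eval h2 (bv F f) with e2 | e2 <;>
      simpa [e1, e2, bv_apply f k hf hk, hkf, hc, hc'] using this

theorem exists_pivot {g : GL I27 F} {S : List ℕ} {st : Step} (hf : st.f < 27) (hfS : st.f ∉ S)
    (hS : ∀ s ∈ S, s < 27)
    (hinv : ∀ u v x, bF (g.val *ᵥ u) (g.val *ᵥ v) (g.val *ᵥ x) = bF u v x) (hg : Fixes g S)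
    (h : chkPivot S st = true) :
    ∃ m ∈ st.moves, (g.val *ᵥ bv F st.f) (pt m.1) ≠ 0 ∧ m.1 < 27 := by
  classical
  set v := g.val *ᵥ bv F st.f with hv
  have hex : ∀ k, k < 27 → v (pt k) ≠ 0 →
      (k ∈ S ∨ zeroable S st.f k = true ∨ k ∈ st.moves.map Prod.fst) → k ∉ S →
      ∃ m ∈ st.moves, v (pt m.1) ≠ 0 ∧ m.1 < 27 := by
    intro k hk hne h hkS
    rcases h with h | h | h
    · exact absurd h hkS
    · exact absurd (zero_of_zeroable hf hk hS hinv hg h) hne
    · obtain ⟨m, hm, rfl⟩ := List.mem_map.1 h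
      exact ⟨m, hm, hne, hk⟩
  -- the part of `v` on the fixed lines
  have hsum : ∀ (w : I27 → F), (∀ k < 27, k ∉ S → w (pt k) = 0) →
      w = ∑ s ∈ S.toFinset, w (pt s) • bv F s := by
    intro w hw
    funext i
    rw [Finset.sum_apply, ← pt_ci i]
    by_cases hi : ci i ∈ S
    · rw [Finset.sum_eq_single (ci i)]
      · simp [bv]
      · intro b hb hne
        simp [bv_apply b (ci i) (hS b (List.mem_toFinset.1 hb)) (ci_lt i), Ne.symm hne]
      · simp [hi]
    · rw [hw _ (ci_lt i) hi, Finset.sum_eq_zero]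
      intro b hb
      have hne : ci i ≠ b := fun e => hi (e ▸ List.mem_toFinset.1 hb)
      simp [bv_apply b (ci i) (hS b (List.mem_toFinset.1 hb)) (ci_lt i), hne]
  unfold chkPivot at h
  cases hw : st.wit with
  | none =>
    simp only [hw, List.all_eq_true, List.mem_range, Bool.or_eq_true, List.contains_iff_mem,
      or_assoc] at h
    by_contra hno
    have hz : ∀ k < 27, k ∉ S → v (pt k) = 0 := fun k hk hkS => by
      by_contra hne
      exact hno (hex k hk hne (h k hk) hkS)
    have e := hsum v hz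
    have hgi : ∀ s ∈ S, (g⁻¹.val *ᵥ bv F s) (pt st.f) = 0 := by
      intro s hs
      obtain ⟨c, hc, ec⟩ := hg s hs
      have h1 := congrArg (fun y => c⁻¹ • (g⁻¹.val *ᵥ y)) ec
      simp only [Matrix.mulVec_smul, smul_smul, inv_mul_cancel₀ hc, one_smul] at h1
      rw [← mv_mul, inv_mul_cancel] at h1
      rw [← h1]
      simp [bv_apply s st.f (hS s hs) hf, show st.f ≠ s from fun e => hfS (e ▸ hs)]
    have h0 : (g⁻¹.val *ᵥ v) (pt st.f) = 0 := by
      rw [e, Matrix.mulVec_sum, Finset.sum_apply]
      exact Finset.sum_eq_zero fun s hs => by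
        rw [Matrix.mulVec_smul, Pi.smul_apply, hgi s (List.mem_toFinset.1 hs), smul_zero]
    rw [hv, ← mv_mul, inv_mul_cancel, Units.val_one, Matrix.one_mulVec, bv, Pi.single_eq_same] at h0
    exact one_ne_zero h0
  | some s =>
    simp only [hw, Bool.and_eq_true, List.all_eq_true, List.mem_range, Bool.or_eq_true,
      List.contains_iff_mem, or_assoc, Bool.not_eq_true', List.isEmpty_eq_false_iff] at h
    obtain ⟨⟨hs, hne⟩, h⟩ := h
    by_contra hno
    obtain ⟨c, hc, ec⟩ := hg s hs
    have hz : ∀ l < 27, bF (bv F s) v (bv F l) =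
        bF (bv F s) (∑ t ∈ S.toFinset, v (pt t) • bv F t) (bv F l) := by
      intro l hl
      rw [bF_swap (bv F s) (bv F l) v,
        bF_swap (bv F s) (bv F l) (∑ t ∈ S.toFinset, v (pt t) • bv F t),
        bF_side s l (hS s hs) hl, bF_side s l (hS s hs) hl]
      refine congrArg List.sum (List.map_congr_left fun p hp => ?_)
      congr 1
      by_cases hpS : p.2 ∈ S
      · rw [Finset.sum_apply, Finset.sum_eq_single p.2]
        · simp [bv]
        · intro b hb hne
          simp [bv_apply b p.2 (hS b (List.mem_toFinset.1 hb)) (hS _ hpS), Ne.symm hne]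
        · simp [hpS]
      · have hp27 : p.2 < 27 := side_lt hp
        rw [Finset.sum_apply, Finset.sum_eq_zero fun b hb => by
          have hne : p.2 ≠ b := fun e => hpS (e ▸ List.mem_toFinset.1 hb)
          simp [bv_apply b p.2 (hS b (List.mem_toFinset.1 hb)) hp27, hne]]
        by_contra hne
        exact hno (hex p.2 hp27 hne (h l hl p hp) hpS)
    have hlin : bF (bv F s) v = bF (bv F s) (∑ t ∈ S.toFinset, v (pt t) • bv F t) := by
      funext x
      have h0 : bF (bv F s) (v + (-1 : F) • ∑ t ∈ S.toFinset, v (pt t) • bv F t) x = 0 :=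
        bF_eq_zero (fun l hl => by
          rw [bF_swap, bF_add_right, bF_smul_right, bF_swap, hz l hl, bF_swap]
          ring) x
      rw [bF_swap, bF_add_right, bF_smul_right, bF_swap] at h0
      rw [bF_swap (bv F s) x (∑ t ∈ S.toFinset, v (pt t) • bv F t)]
      linear_combination h0
    obtain ⟨l, hl, σ, hσ, hside⟩ := side_of_ne (hS s hs) hf hne
    have h1 := hinv (bv F s) (bv F st.f) (bv F l)
    rw [ec, ← hv, bF_smul_left, hlin, bF_side s st.f (hS s hs) hf, hside] at h1
    have h2 : bF (bv F s) (∑ t ∈ S.toFinset, v (pt t) • bv F t) (g.val *ᵥ bv F l) = 0 := by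
      rw [bF_swap]
      let L : (I27 → F) →ₗ[F] F :=
        { toFun := bF (bv F s) (g.val *ᵥ bv F l)
          map_add' := bF_add_right _ _
          map_smul' := fun c w => by simp [bF_smul_right] }
      show L _ = 0
      rw [map_sum]
      refine Finset.sum_eq_zero fun t ht => ?_
      obtain ⟨c', hc', et⟩ := hg t (List.mem_toFinset.1 ht)
      have h3 := hinv (bv F s) (bv F l) (bv F t)
      rw [ec, et, bF_smul_left, bF_smul_right, side_symm (hS s hs) hf hl hside,
        if_neg fun e : t = st.f => hfS (e ▸ List.mem_toFinset.1 ht)] at h3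
      · simp only [mul_eq_zero, hc, hc', false_or] at h3
        simp [L, bF_smul_right, h3]
      · exact hS t (List.mem_toFinset.1 ht)
    rw [h2] at h1
    rcases hσ with rfl | rfl <;> simp [evalL, bv, hc] at h1
where
  side_lt {s l : ℕ} {p : ℤ × ℕ} (hp : p ∈ side s l) : p.2 < 27 := by
    simp only [side, List.mem_flatMap, List.mem_map, List.mem_filter] at hp
    obtain ⟨e, he, q, ⟨hq, -⟩, rfl⟩ := hp
    obtain ⟨a, b, c⟩ := tris_lt e he
    simp only [List.mem_cons, List.not_mem_nil, or_false] at hq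
    rcases hq with rfl | rfl | rfl | rfl | rfl | rfl <;> assumption
  side_of_ne {s f : ℕ} (hs : s < 27) (hf : f < 27) (hne : side s f ≠ []) :
      ∃ l < 27, ∃ σ : ℤ, (σ = 1 ∨ σ = -1) ∧ side s f = [(σ, l)] := by
    have h := List.all_eq_true.1 (List.all_eq_true.1 side_tbl s (List.mem_range.2 hs)) f
      (List.mem_range.2 hf)
    cases hq : side s f with
    | nil => exact absurd hq hne
    | cons p q =>
      cases q with
      | nil =>
        simp only [hq, Bool.and_eq_true, decide_eq_true_eq, Bool.or_eq_true, beq_iff_eq] at h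
        exact ⟨p.2, h.1.1, p.1, h.1.2, rfl⟩
      | cons => simp [hq] at h
  side_symm {s f l : ℕ} {σ : ℤ} (hs : s < 27) (hf : f < 27) (hl : l < 27)
      (h : side s f = [(σ, l)]) {t : ℕ} (ht : t < 27) :
      bF (bv F s) (bv F l) (bv F t) = if t = f then (σ : F) else 0 := by
    have h' := List.all_eq_true.1 (List.all_eq_true.1 side_tbl s (List.mem_range.2 hs)) f
      (List.mem_range.2 hf)
    simp only [h, Bool.and_eq_true, decide_eq_true_eq, beq_iff_eq] at h'
    rw [bF_side s l hs hl, h'.2]
    by_cases e : t = f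
    · subst e; simp [evalL, bv]
    · simp [evalL, bv_apply t f ht hf, Ne.symm e, e]

theorem move (S : List ℕ) (hS : ∀ s ∈ S, s < 27) : ∀ (path : List ℕ) (k : ℕ), k < 27 →
    (∀ r ∈ path, r < 72 ∧ ∀ s ∈ S, img r s = s) →
    ∃ h ∈ G27 F, Fixes h S ∧ path.foldl (fun a r => img r a) k < 27 ∧
      ∀ v : I27 → F, v (pt k) ≠ 0 →
        (h.val *ᵥ v) (pt (path.foldl (fun a r => img r a) k)) ≠ 0 := by
  intro path
  induction path with
  | nil =>
    intro k hk _
    exact ⟨1, one_mem _, fun s _ => ⟨1, one_ne_zero, by simp⟩, hk, fun v hv => by simpa using hv⟩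
  | cons r path ih =>
    intro k hk hp
    obtain ⟨hr, hfix⟩ := hp r List.mem_cons_self
    obtain ⟨hk', d, hd, ed⟩ := img_spec (F := F) hr hk one_ne_zero
    obtain ⟨h, hh, hF, hlt, hv⟩ := ih (img r k) hk' fun x hx => hp x (List.mem_cons_of_mem _ hx)
    refine ⟨h * nE r 1, mul_mem hh (nE_mem _ _), hF.mul fun s hs => ?_, hlt, fun v hvk => ?_⟩
    · obtain ⟨-, d', hd', e'⟩ := img_spec (F := F) hr (hS s hs) one_ne_zero
      exact ⟨d', hd', by rw [e', hfix s hs]⟩
    · rw [mv_mul, List.foldl_cons]
      refine hv _ fun hz => hvk ?_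
      -- `n` permutes the lines, so its coordinate at the image is `d v_k`
      have hcol : ((nE r (1 : F)).val *ᵥ v) (pt (img r k)) = d * v (pt k) := by
        rw [Matrix.mulVec, dotProduct, Finset.sum_eq_single (pt k)]
        · have := congrFun ed (pt (img r k))
          rw [bv, Matrix.mulVec_single_one, Matrix.col_apply] at this
          simp [this, bv]
        · intro i _ hi
          obtain ⟨-, d', -, e'⟩ := img_spec (F := F) hr (ci_lt i) one_ne_zero
          have := congrFun e' (pt (img r k))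
          rw [bv, Matrix.mulVec_single_one, Matrix.col_apply, pt_ci] at this
          have hne : img r (ci i) ≠ img r k := fun he => hi (by
            rw [← pt_ci i, img_injective hr (ci_lt i) hk he])
          rw [this]
          simp [bv_apply _ _ (img_spec (F := F) hr (ci_lt i) one_ne_zero).1 hk', Ne.symm hne]
        · simp
      simpa [hcol, hd] using hz
where
  img_injective {r a b : ℕ} (hr : r < 72) (ha : a < 27) (hb : b < 27) (h : img r a = img r b) :
      a = b := by
    have t := List.all_eq_true.1 (List.all_eq_true.1 img_tbl r (List.mem_range.2 hr)) a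
      (List.mem_range.2 ha)
    have t' := List.all_eq_true.1 (List.all_eq_true.1 img_tbl r (List.mem_range.2 hr)) b
      (List.mem_range.2 hb)
    simp only [beq_iff_eq] at t t'
    rw [← t, h, t']

theorem sum_filter {α : Type*} (f : α → F) (p : α → Bool) : ∀ L : List α,
    (∀ x ∈ L, p x = false → f x = 0) → (L.map f).sum = ((L.filter p).map f).sum
  | [], _ => rfl
  | a :: L, h => by
    have ih := sum_filter f p L fun x hx => h x (List.mem_cons_of_mem _ hx)
    cases hp : p a
    · simp [hp, ih, h a List.mem_cons_self hp]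
    · simp [hp, ih]

theorem step {t₀ : F} (h0 : t₀ ≠ 0) (h1 : t₀ ≠ 1) {g : GL I27 F} (hg : g ∈ E6univ F)
    {S : List ℕ} {st : Step} (hfix : Fixes g S) (hchk : chkStep S st = true) :
    ∃ h ∈ G27 F, Fixes (h * g) (S ++ [st.f]) := by
  classical
  simp only [chkStep, Bool.and_eq_true, decide_eq_true_eq, Bool.not_eq_true',
    List.all_eq_true, List.contains_eq_mem, decide_eq_false_iff_not] at hchk
  obtain ⟨⟨⟨⟨⟨⟨hf, hfS⟩, hS⟩, hpiv⟩, hmv⟩, hnb⟩, hrest⟩ := hchk
  obtain ⟨hD, hB⟩ := univ_invariant h0 h1 hg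
  obtain ⟨m, hm, hne, hm27⟩ := exists_pivot hf hfS hS hB hfix hpiv
  simp only [chkMoves, List.all_eq_true, Bool.and_eq_true, decide_eq_true_eq, beq_iff_eq] at hmv
  obtain ⟨⟨-, hend⟩, hpath⟩ := hmv m hm
  obtain ⟨n, hn, hnF, -, hnv⟩ := move (F := F) S hS m.2 m.1 hm27 hpath
  set g' := n * g with hg'
  have hg'u : g' ∈ E6univ F := mul_mem (G27_le hn) hg
  have hfix' : Fixes g' S := hnF.mul hfix
  obtain ⟨hD', hB'⟩ := univ_invariant h0 h1 hg'u
  set v := g'.val *ᵥ bv F st.f with hv
  have hvf : v (pt st.f) ≠ 0 := by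
    have := hnv _ hne
    rwa [hend, ← mv_mul] at this
  simp only [chkNb, Bool.and_eq_true, decide_eq_true_eq, List.all_eq_true, Bool.or_eq_true,
    Bool.not_eq_true', beq_eq_false_iff_ne, ne_eq, beq_iff_eq,
    List.contains_eq_mem, decide_eq_false_iff_not, decide_eq_true_eq] at hnb
  obtain ⟨hnd, hnb⟩ := hnb
  have hE : ∀ n ∈ st.nbs, ∀ w : I27 → F,
      (eM F (er n.2.1) *ᵥ w) (pt n.1) = (n.2.2 : F) * w (pt st.f) ∧
      (eM F (er n.2.1) *ᵥ w) (pt st.f) = 0 ∧
      ∀ j ∈ nbJ st, j ≠ n.1 → j < 27 → (eM F (er n.2.1) *ᵥ w) (pt j) = 0 := by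
    intro n hn w
    obtain ⟨⟨h1', h2'⟩, -⟩ := hnb n hn
    have hmem := h1'
    have hlt := mem_lt hmem
    refine ⟨?_, ?_, ?_⟩
    · rw [eM_mulVec _ (root_spec n.2.1).1, ci_pt hlt.1]
      have hsing : (er n.2.1).filter (fun e => e.1 == n.1) = [(n.1, st.f, n.2.2)] := by
        have hall : ∀ x ∈ (er n.2.1).filter (fun e => e.1 == n.1), x = (n.1, st.f, n.2.2) :=
          fun x hx => by
            simp only [List.mem_filter, beq_iff_eq] at hx
            exact (((root_spec n.2.1).2.2.1 x hx.1).2.2 _ hmem).2.1 hx.2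
        have hnd' := (er_nodup n.2.1).filter (fun e => e.1 == n.1)
        have hin : (n.1, st.f, n.2.2) ∈ (er n.2.1).filter (fun e => e.1 == n.1) := by
          simp [List.mem_filter, hmem]
        revert hall hnd' hin
        generalize (er n.2.1).filter (fun e => e.1 == n.1) = L
        intro hall hnd' hin
        match L with
        | [] => simp at hin
        | [x] => rw [hall x (by simp)]
        | x :: y :: _ =>
          exact absurd ((hall x (by simp)).trans (hall y (by simp)).symm)
            (fun e => by simp [e] at hnd')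
      simp [hsing]
    · rw [eM_mulVec _ (root_spec n.2.1).1, ci_pt hf,
        List.filter_eq_nil_iff.2 fun e he => by simpa using (h2' e he).1]
      simp
    · intro j hj hjn hj27
      rw [eM_mulVec _ (root_spec n.2.1).1, ci_pt hj27, List.filter_eq_nil_iff.2 fun e he => by
        rcases (h2' e he).2 with h | h
        · simp [h, Ne.symm hjn]
        · simp only [beq_iff_eq]
          exact fun e' => h (e' ▸ hj)]
      simp
  -- clear the neighbours
  have kill : ∀ L : List (ℕ × ℕ × ℤ), L.Sublist st.nbs → ∃ h ∈ G27 F,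
      (∀ s ∈ S, h.val *ᵥ bv F s = bv F s) ∧ (h.val *ᵥ v) (pt st.f) = v (pt st.f) ∧
      ∀ n ∈ st.nbs, (h.val *ᵥ v) (pt n.1) = if n ∈ L then 0 else v (pt n.1) := by
    intro L
    induction L with
    | nil => exact fun _ => ⟨1, one_mem _, by simp, by simp, by simp⟩
    | cons n L ih =>
      intro hsub
      obtain ⟨h, hh, hs, hvf', hj⟩ := ih ((List.sublist_cons_self _ _).trans hsub)
      have hnm : n ∈ st.nbs := hsub.subset List.mem_cons_self
      have hnL : n ∉ L :=
        (List.nodup_cons.1 (hnd.of_map.sublist hsub)).1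
      have hσ : (n.2.2 : F) * (n.2.2 : F) = 1 := sign_sq (e := (n.1, st.f, n.2.2)) (hnb n hnm).1.1
      set t : F := -((n.2.2 : F) * v (pt n.1) / v (pt st.f)) with ht
      refine ⟨xE n.2.1 t * h, mul_mem (xE_mem _ _) hh, fun s hs' => ?_, ?_, fun q hq => ?_⟩
      · rw [mv_mul, hs s hs']
        rcases (hnb n hnm).2 with hz | hz
        · have hv0 : v (pt n.1) = 0 :=
            zero_of_zeroable hf (mem_lt (hnb n hnm).1.1).1 hS hB' hfix' hz
          simp [ht, hv0, xE_zero]
        · rw [xE_mulVec, col_of_not_mem (hS s hs') (hz s hs'), smul_zero, add_zero]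
      · rw [mv_mul, xE_mulVec, Pi.add_apply, Pi.smul_apply, (hE n hnm _).2.1, smul_zero,
          add_zero]
        exact hvf'
      · rw [mv_mul, xE_mulVec, Pi.add_apply, Pi.smul_apply]
        by_cases hqn : q = n
        · subst hqn
          rw [(hE q hnm _).1, hvf', hj q hnm, if_neg hnL, if_pos List.mem_cons_self, ht, smul_eq_mul]
          field_simp
          linear_combination -(v (pt q.1)) * hσ
        · have hne1 : q.1 ≠ n.1 := fun e => hqn (List.inj_on_of_nodup_map hnd hq hnm e)
          rw [(hE n hnm _).2.2 q.1 (List.mem_map_of_mem hq) hne1 (mem_lt (hnb q hq).1.1).1,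
            smul_zero, add_zero, hj q hq]
          simp [hqn]
  obtain ⟨k, hk, hks, hkf, hkj⟩ := kill st.nbs (List.Sublist.refl _)
  refine ⟨k * n, mul_mem hk hn, ?_⟩
  rw [mul_assoc, ← hg']
  set g2 := k * g'
  have hg2 : g2 ∈ E6univ F := mul_mem (G27_le hk) hg'u
  obtain ⟨hD2, -⟩ := univ_invariant h0 h1 hg2
  set w := k.val *ᵥ v
  have hwv : g2.val *ᵥ bv F st.f = w := mv_mul _ _ _
  have hwhite : ∀ x, dF w x = 0 := fun x => by
    rw [← hwv, ← mv_inv g2 x, hD2, dF_bv _ hf]
  have hnz : ∀ j ∈ nbJ st, w (pt j) = 0 := fun j hj => by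
    obtain ⟨q, hq, rfl⟩ := List.mem_map.1 hj
    rw [hkj q hq, if_pos hq]
  have hwline : w = v (pt st.f) • bv F st.f := by
    funext i
    rw [← pt_ci i, Pi.smul_apply, bv_apply _ _ hf (ci_lt i), smul_eq_mul]
    by_cases hi : ci i = st.f
    · rw [hi, hkf]; simp
    rw [if_neg hi, mul_zero]
    simp only [chkRest, List.all_eq_true, List.mem_range, Bool.or_eq_true, beq_iff_eq,
      List.any_eq_true, List.contains_iff_mem] at hrest
    rcases hrest (ci i) (ci_lt i) with (h | h) | ⟨l, hl, h⟩
    · exact absurd h hi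
    · exact hnz _ h
    · have e := hwhite (bv F l)
      rw [dF_grad l hl, sum_filter _
        (fun q => !((nbJ st).contains q.2.1 || (nbJ st).contains q.2.2)) (grad l) ?_] at e
      · rcases h with ((h | h) | h) | h <;> rw [h] at e <;>
          simpa [hkf, hvf, pt_ci] using e
      · intro q hq hp
        simp only [Bool.not_eq_false', Bool.or_eq_true, List.contains_iff_mem] at hp
        rcases hp with h' | h' <;> simp [hnz _ h']
  intro s hs
  rcases List.mem_append.1 hs with hs | hs
  · obtain ⟨c, hc, e⟩ := hfix' s hs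
    exact ⟨c, hc, by rw [mv_mul, e, Matrix.mulVec_smul, hks s hs]⟩
  · rw [List.mem_singleton] at hs
    subst hs
    exact ⟨v (pt st.f), hvf, hwv.trans hwline⟩

/-- Every isometry becomes diagonal after a product of root elements. -/
theorem exists_diagonal {t₀ : F} (h0 : t₀ ≠ 0) (h1 : t₀ ≠ 1) {g : GL I27 F} (hg : g ∈ E6univ F) :
    ∃ h ∈ G27 F, Fixes (h * g) (List.range 27) := by
  suffices H : ∀ (L : List Step) (S : List ℕ) (g : GL I27 F), g ∈ E6univ F → Fixes g S →
      chkSteps S L = true → ∃ h ∈ G27 F, Fixes (h * g) (List.range 27) from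
    H steps [] g hg (fun s hs => by simp at hs) steps_ok
  intro L
  induction L with
  | nil =>
    intro S g _ hfix hchk
    simp only [chkSteps, List.all_eq_true, List.mem_range, List.contains_iff_mem] at hchk
    exact ⟨1, one_mem _, fun s hs => by rw [one_mul]; exact hfix s (hchk s (List.mem_range.1 hs))⟩
  | cons st L ih =>
    intro S g hg hfix hchk
    simp only [chkSteps, Bool.and_eq_true] at hchk
    obtain ⟨h, hh, hh'⟩ := step h0 h1 hg hfix hchk.1
    obtain ⟨k, hk, hk'⟩ := ih _ (h * g) (mul_mem (G27_le hh) hg) hh' hchk.2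
    exact ⟨k * h, mul_mem hk hh, by rwa [mul_assoc]⟩

end CfsgLib.ESix
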