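import Cfsg.Agent.ESix.AdjChecks

/-!
# The brackets, roots 36 to 47
-/

set_option autoImplicit false

namespace CfsgLib.ESix

theorem adj_partD : (List.range 12).all (fun r => chkAdjAt (36 + r)) = true := by decide +kernel

end CfsgLib.ESix
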