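import Cfsg.Agent.ESix.AdjPartA
import Cfsg.Agent.ESix.AdjPartB
import Cfsg.Agent.ESix.AdjPartC
import Cfsg.Agent.ESix.AdjPartD
import Cfsg.Agent.ESix.AdjPartE
import Cfsg.Agent.ESix.AdjPartF
import Cfsg.Agent.Chevalley.GoodE6
import Cfsg.Agent.Chevalley.Element

/-!
# The root elements act on the span of root and torus vectors as the Chevalley generators
-/

set_option autoImplicit false
set_option maxHeartbeats 2000000

namespace CfsgLib.ESix

open Cfsg.Lie CfsgLib.Chevalley
open scoped MatrixGroups Matrix

theorem adj_ok : ∀ r < 72, chkAdjAt r = true := by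
  intro r hr
  have h : ∀ k j, (List.range 12).all (fun i => chkAdjAt (k + i)) = true → j < 12 →
      chkAdjAt (k + j) = true := fun k j h hj => List.all_eq_true.1 h j (List.mem_range.2 hj)
  rcases Nat.lt_or_ge r 12 with h1 | h1
  · simpa using h 0 r adj_partA h1
  rcases Nat.lt_or_ge r 24 with h2 | h2
  · simpa [Nat.add_sub_cancel' h1] using h 12 (r - 12) adj_partB (by omega)
  rcases Nat.lt_or_ge r 36 with h3 | h3
  · simpa [Nat.add_sub_cancel' h2] using h 24 (r - 24) adj_partC (by omega)
  rcases Nat.lt_or_ge r 48 with h4 | h4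
  · simpa [Nat.add_sub_cancel' h3] using h 36 (r - 36) adj_partD (by omega)
  rcases Nat.lt_or_ge r 60 with h5 | h5
  · simpa [Nat.add_sub_cancel' h4] using h 48 (r - 48) adj_partE (by omega)
  · simpa [Nat.add_sub_cancel' h5] using h 60 (r - 60) adj_partF (by omega)

variable {R : Type*} [CommRing R]

/-- The vector of a basis element. -/
def yB (R : Type*) [CommRing R] : chevE6.Idx → Matrix I27 I27 R :=
  Sum.elim (fun i => eM R (hEnt (i : ℕ))) fun r => eM R (er (r : ℕ))

/-- The vector of a vector of coordinates. -/
def yV (v : chevE6.Idx → R) : Matrix I27 I27 R := ∑ a, v a • yB R a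

theorem yV_add (v w : chevE6.Idx → R) : yV (v + w) = yV v + yV w := by
  simp [yV, add_smul, Finset.sum_add_distrib]

theorem yV_smul (c : R) (v : chevE6.Idx → R) : yV (c • v) = c • yV v := by
  simp [yV, Finset.smul_sum, smul_smul]

theorem yV_single (a : chevE6.Idx) (c : R) : yV (Pi.single a c) = c • yB R a := by
  simp [yV, Pi.single_apply, ite_smul]

theorem entZ_diagE (f : ℕ → ℤ) (a b : ℕ) :
    entZ (diagE f) a b = if a = b ∧ a < 27 then f a else 0 := by
  have h : ∀ n, entZ ((List.range n).map fun k => (k, k, f k)) a b =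
      if a = b ∧ a < n then f a else 0 := by
    intro n
    induction n with
    | zero => simp [entZ_nil]
    | succ n ih =>
      have happ : ∀ L M : Ent, entZ (L ++ M) a b = entZ L a b + entZ M a b := fun L M => by
        simp [entZ]
      rw [List.range_succ, List.map_append, happ, ih, List.map_cons, List.map_nil, entZ_cons,
        entZ_nil, add_zero]
      by_cases h1 : a = b
      · subst h1
        by_cases h2 : a = n
        · subst h2; simp
        · have : a < n + 1 ↔ a < n := by omega
          simp [Ne.symm h2, this]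
      · have : ¬ (n = a ∧ n = b) := fun h => h1 (h.1 ▸ h.2)
        simp [h1, this]
  exact h 27

theorem hRoot_eq (r : ℕ) : eM R (hRoot r) =
    ∑ i : Fin chevE6.rank, (((chevE6.coroot.getD r #[]).getD (i : ℕ) 0 : ℤ) : R) • eM R (hEnt i) := by
  ext x y
  simp only [eM, hRoot, hEnt, entZ_diagE, Matrix.of_apply, Matrix.sum_apply, Matrix.smul_apply,
    smul_eq_mul]
  split_ifs
  · rw [show chevE6.rank = 6 from rfl, Fin.sum_univ_eq_sum_range (fun i =>
      (((chevE6.coroot.getD r #[]).getD i 0 : ℤ) : R) * (((wtTab.getD (ci x) []).getD i 0 : ℤ) : R))]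
    simp only [← Int.cast_mul, ← Int.cast_sum]
    rfl
  · simp

variable {F : Type*} [Field F]

/-- A root element carries each vector to the image under the Chevalley generator. -/
theorem xE_yB (r : Root chevE6) (t : F) (y : chevE6.Idx) :
    (xE (r : ℕ) t).val * yB F y =
      yV (fun a => chevE6.xMat F r t a y) * (xE (r : ℕ) t).val := by
  have hr : (r : ℕ) < 72 := r.isLt
  have hc := adj_ok r hr
  simp only [chkAdjAt, Bool.and_eq_true, List.all_eq_true, List.mem_range, chkOpp, decide_eq_true_eq] at hc
  obtain ⟨⟨hH, ⟨⟨⟨⟨hneg, hrne⟩, hhb⟩, hopp⟩, hHE⟩⟩, hP⟩ := hc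
  have hEb := (root_spec (r : ℕ)).1
  have hsq := eM_sq (R := F) (r : ℕ)
  have hval : (xE (r : ℕ) t).val = 1 + t • eM F (er r) := rfl
  rw [hval]
  rcases y with i | s
  · have h := hH i i.isLt
    simp only [chkH, Bool.and_eq_true] at h
    have e := eM_of_eqE (R := F) h.2
    rw [eM_mulE _ hEb, eM_append, eM_mulE _ h.1, eM_smulE] at e
    have hcol : (fun a => chevE6.xMat F r t a (Sum.inl i)) = Pi.single (Sum.inl i) 1 +
        Pi.single (Sum.inr r)
          (-(((chevE6.cartanSR.getD (i : ℕ) #[]).getD (r : ℕ) 0 : ℤ) : F) * t) := by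
      funext a
      rcases a with j | u <;> simp [ChevalleyDatum.xMat, Pi.single_apply]
    rw [hcol, yV_add, yV_single, yV_single]
    simp only [yB, Sum.elim_inl, Sum.elim_inr, add_mul, mul_add, one_mul, mul_one, one_smul,
      smul_mul_assoc, mul_smul_comm, smul_smul, hsq, smul_zero, add_zero, e, smul_add]
    push_cast
    module
  · by_cases hsr : s = r
    · subst hsr
      have hcol : (fun a => chevE6.xMat F s t a (Sum.inr s)) = Pi.single (Sum.inr s) 1 := by
        funext a
        rcases a with j | u <;> simp [ChevalleyDatum.xMat, Pi.single_apply]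
      rw [hcol, yV_single]
      simp [yB, mul_add, add_mul]
    by_cases hsn : (s : ℕ) = 71 - r
    · have e := eM_of_eqE (R := F) hopp
      rw [eM_mulE _ hEb, eM_append, eM_mulE _ (root_spec _).1] at e
      have e2 := eM_of_eqE (R := F) hHE
      rw [eM_mulE _ hhb] at e2
      have hcol : (fun a => chevE6.xMat F r t a (Sum.inr s)) =
          Sum.elim (fun i : Fin chevE6.rank =>
            (((chevE6.coroot.getD (r : ℕ) #[]).getD (i : ℕ) 0 : ℤ) : F) * t) (fun _ => 0) +
          (Pi.single (Sum.inr s) 1 + Pi.single (Sum.inr r) (-(t ^ 2))) := by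
        funext a
        rcases a with j | u
        · simp [ChevalleyDatum.xMat, hsr, hsn, hneg]
        · by_cases hu : u = s
          · subst hu; simp [ChevalleyDatum.xMat, hsr, hsn, hneg]
          · simp [ChevalleyDatum.xMat, hsr, hsn, hneg, hu, Pi.single_apply]
      have hh : yV (Sum.elim (fun i : Fin chevE6.rank =>
            (((chevE6.coroot.getD (r : ℕ) #[]).getD (i : ℕ) 0 : ℤ) : F) * t) (fun _ => 0)) =
          t • eM F (hRoot r) := by
        rw [hRoot_eq, Finset.smul_sum, yV, Fintype.sum_sum_type]
        simp [yB, smul_smul, mul_comm]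
      rw [hcol, yV_add, yV_add, yV_single, yV_single, hh]
      simp only [yB, Sum.elim_inr, hsn, add_mul, mul_add, one_mul, mul_one, one_smul,
        smul_mul_assoc, mul_smul_comm, smul_smul, hsq, smul_zero, add_zero, e, e2, smul_add]
      module
    · have h := hP s s.isLt
      simp only [chkPair, entryT_eq, Bool.or_eq_true, beq_iff_eq] at h
      have h' := h.resolve_left (by
        rintro (h | h)
        · exact hsr (Fin.ext h)
        · exact hsn h)
      have hcol : ∀ u, chevE6.xMat F r t (Sum.inr u) (Sum.inr s) = (if u = s then 1 else 0) +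
          ((chevE6.chainCoeff r s u).map fun km => ((km.2 : ℤ) : F) * t ^ km.1).sum := fun u => by
        simp [ChevalleyDatum.xMat, hsr, hsn, hneg]
      have hcol0 : ∀ i, chevE6.xMat F r t (Sum.inl i) (Sum.inr s) = 0 := fun i => by
        simp [ChevalleyDatum.xMat, hsr, hsn, hneg]
      simp only [chainCoeff_eq good_chevE6] at hcol
      have hfun : (fun a => chevE6.xMat F r t a (Sum.inr s)) = Sum.elim (fun _ => 0)
          (fun u => chevE6.xMat F r t (Sum.inr u) (Sum.inr s)) := by
        funext a; rcases a with i | u <;> simp [hcol0]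
      rcases hE : chevE6.chainEntry r s with _ | ⟨⟨u', N⟩, _ | ⟨b, L⟩⟩
      · rw [hE] at h'
        have e := eM_of_eqE (R := F) h'
        rw [eM_mulE _ hEb, eM_mulE _ (root_spec _).1] at e
        have : (fun a => chevE6.xMat F r t a (Sum.inr s)) = Pi.single (Sum.inr s) 1 := by
          funext a
          rcases a with i | u <;> simp [hcol0, hcol, hE, Pi.single_apply]
        rw [this, yV_single]
        simp only [yB, Sum.elim_inr, one_smul, add_mul, mul_add, one_mul, mul_one,
          smul_mul_assoc, mul_smul_comm, e]
      · rw [hE] at h'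
        simp only [Bool.and_eq_true, decide_eq_true_eq] at h'
        obtain ⟨⟨hu', h1⟩, h2⟩ := h'
        have e := eM_of_eqE (R := F) h1
        rw [eM_mulE _ hEb, eM_append, eM_mulE _ (root_spec _).1, eM_smulE] at e
        have hb : bdd (smulE N (er u')) = true := by
          simpa [bdd, smulE, List.all_map, Function.comp_def] using (root_spec u').1
        have e2 := eM_of_eqE (R := F) h2
        rw [eM_mulE _ hb, eM_smulE, eM_nil] at e2
        have hu72 : u' < chevE6.nroots := hu'
        have : (fun a => chevE6.xMat F r t a (Sum.inr s)) =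
            Pi.single (Sum.inr s) 1 + Pi.single (Sum.inr ⟨u', hu72⟩) ((N : F) * t) := by
          funext a
          rcases a with i | u
          · simp [hcol0]
          · simp only [hcol, hE, Pi.add_apply, Pi.single_apply]
            by_cases hu : u = ⟨u', hu72⟩
            · subst hu; simp
            · have : u' ≠ (u : ℕ) := fun e => hu (Fin.ext e.symm)
              simp [hu, this]
        rw [this, yV_add, yV_single, yV_single]
        simp only [yB, Sum.elim_inr, one_smul, add_mul, mul_add, one_mul, mul_one,
          smul_mul_assoc, mul_smul_comm, smul_smul, e, smul_add]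
        rw [show (t * ((N : F) * t)) • (eM F (er u') * eM F (er r)) =
          (t * t) • (((N : F) • eM F (er u')) * eM F (er r)) by
            rw [smul_mul_assoc, smul_smul]; ring_nf]
        rw [e2, smul_zero, add_zero]
        module
      · rw [hE] at h'; simp at h'

end CfsgLib.ESix
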