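import Cfsg.Agent.ESix.Torus
import Cfsg.Agent.ESix.Adjoint
import Mathlib.GroupTheory.QuotientGroup.Basic

/-!
# The isometry group of the cubic form modulo its centre is the Chevalley group of type E₆
-/

set_option autoImplicit false
set_option maxHeartbeats 2000000

namespace CfsgLib.ESix

open Cfsg.Lie CfsgLib.Chevalley
open scoped MatrixGroups Matrix

/-- Entries singling out the root vectors and the fundamental coroot vectors. -/
def chkIndep : Bool :=
  ((List.range 72).all fun r =>
    match er r with
    | (b, a, c) :: _ => !(b == a) && (c == 1 || c == -1) && decide (b < 27 ∧ a < 27) &&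
        (entZ (er r) b a == c) && (List.range 72).all fun r' => r' == r || entZ (er r') b a == 0
    | [] => false) &&
  ((List.range 6).all fun i => (List.range 72).all fun r => (List.range 27).all fun k =>
    entZ (er r) k k == 0 && (entZ (hEnt i) k k == (wtTab.getD k []).getD i 0)) &&
  ((List.range 6).all fun i => (List.range 72).all fun r =>
    (hEnt i).all fun e => e.1 == e.2.1) &&
  ((List.range 6).all fun i => (List.range 6).all fun j =>
    (chevE6.coroot.getD (chevE6SimpleIdx.getD i 0) #[]).getD j 0 == (if i = j then 1 else 0))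

theorem indep_ok : chkIndep = true := by decide +kernel

variable {F : Type*} [Field F]

theorem yV_injective {v : chevE6.Idx → F} (h : yV v = 0) : v = 0 := by
  classical
  have hc := indep_ok
  simp only [chkIndep, Bool.and_eq_true, List.all_eq_true, List.mem_range, beq_iff_eq] at hc
  obtain ⟨⟨⟨hroot, hdiag⟩, hoff⟩, -⟩ := hc
  have hent : ∀ a b : ℕ, a < 27 → b < 27 →
      ∑ i : Fin chevE6.rank, v (Sum.inl i) * (entZ (hEnt i) a b : F) +
        ∑ r : Root chevE6, v (Sum.inr r) * (entZ (er r) a b : F) = 0 := by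
    intro a b ha hb
    have := congrFun (congrFun h (pt a)) (pt b)
    rw [yV, Fintype.sum_sum_type] at this
    simpa [yB, eM, Matrix.sum_apply, Matrix.add_apply, ci_pt ha, ci_pt hb] using this
  have hr : ∀ r : Root chevE6, v (Sum.inr r) = 0 := by
    intro r
    have h1 := hroot r r.isLt
    rcases hE : er (r : ℕ) with _ | ⟨⟨b, a, c⟩, L⟩
    · simp [hE] at h1
    rw [hE] at h1
    simp only [Bool.and_eq_true, Bool.or_eq_true, beq_iff_eq, decide_eq_true_eq,
      List.all_eq_true, List.mem_range, Bool.not_eq_true', beq_eq_false_iff_ne, ne_eq] at h1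
    obtain ⟨⟨⟨⟨hba, hcs⟩, hb, ha⟩, hcc⟩, hoth⟩ := h1
    have h2 := hent b a hb ha
    rw [Finset.sum_eq_zero (s := (Finset.univ : Finset (Fin chevE6.rank))), zero_add,
      Finset.sum_eq_single r] at h2
    · rw [hE, hcc] at h2
      rcases hcs with rfl | rfl <;> simpa using h2
    · intro r' _ hne
      rw [(hoth r' r'.isLt).resolve_left fun e => hne (Fin.ext e)]
      simp
    · simp
    · intro i _
      rw [entZ, List.filter_eq_nil_iff.2 fun e he => by
        have := hoff i i.isLt 0 (by norm_num) e he
        simp only [Bool.and_eq_true, beq_iff_eq]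
        rintro ⟨e1, e2⟩
        exact hba (by rw [← e1, this, e2])]
      simp
  have ht := torus_ok
  simp only [chkTorus, Bool.and_eq_true, List.all_eq_true, List.mem_range, decide_eq_true_eq,
    beq_iff_eq] at ht
  obtain ⟨⟨-, hsix⟩, hinv⟩ := ht
  have hh : ∀ k < 6, ∑ i : Fin chevE6.rank, v (Sum.inl i) * (wtE (six.getD k 0) i : F) = 0 := by
    intro k hk
    have h2 := hent _ _ (hsix k hk).1 (hsix k hk).1
    rw [Finset.sum_eq_zero (s := (Finset.univ : Finset (Root chevE6))) fun r _ => by simp [hr r],
      add_zero] at h2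
    rw [← h2]
    refine Finset.sum_congr rfl fun i _ => ?_
    rw [(hdiag i i.isLt 0 (by norm_num) _ (hsix k hk).1).2]
    rfl
  funext a
  rcases a with i | r
  · have key : ∀ i' : Fin chevE6.rank,
        ∑ k ∈ Finset.range 6, (invE i k : F) * (wtE (six.getD k 0) i' : F) = if i = i' then 1 else 0 := by
      intro i'
      have h3 : ∑ k ∈ Finset.range 6, invE i k * wtE (six.getD k 0) i' =
          if (i : ℕ) = i' then 1 else 0 := hinv i i.isLt i' i'.isLt
      have h4 := congrArg (Int.cast : ℤ → F) h3
      push_cast at h4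
      rw [h4]
      simp [Fin.val_eq_val]
    have : ∑ k ∈ Finset.range 6, (invE i k : F) *
        ∑ i' : Fin chevE6.rank, v (Sum.inl i') * (wtE (six.getD k 0) i' : F) = 0 :=
      Finset.sum_eq_zero fun k hk => by rw [hh k (Finset.mem_range.1 hk), mul_zero]
    simp only [Finset.mul_sum] at this
    rw [Finset.sum_comm] at this
    simp only [mul_left_comm _ (v _), ← Finset.mul_sum, key, mul_ite, mul_one, mul_zero,
      Finset.sum_ite_eq, Finset.mem_univ, if_true] at this
    exact this
  · exact hr r

theorem yV_inj {v w : chevE6.Idx → F} (h : yV v = yV w) : v = w := by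
  refine sub_eq_zero.1 (yV_injective ?_)
  rw [sub_eq_add_neg, ← neg_one_smul F w, yV_add, yV_smul, h]
  simp

/-- `g` acts on the span of the root and torus vectors by the matrix `C`. -/
def Compat (g : GL I27 F) (C : GL chevE6.Idx F) : Prop :=
  ∀ v, g.val * yV v = yV (C.val *ᵥ v) * g.val

theorem Compat.one : Compat (1 : GL I27 F) 1 := fun v => by simp

theorem Compat.mul {g h : GL I27 F} {C C' : GL chevE6.Idx F} (a : Compat g C) (b : Compat h C') :
    Compat (g * h) (C * C') := fun v => by
  rw [Units.val_mul, Units.val_mul, mul_assoc, b v, ← mul_assoc, a, mul_assoc,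
    Matrix.mulVec_mulVec]

theorem Compat.inv {g : GL I27 F} {C : GL chevE6.Idx F} (a : Compat g C) : Compat g⁻¹ C⁻¹ :=
  fun v => by
  have h := a (C⁻¹.val *ᵥ v)
  rw [Matrix.mulVec_mulVec, ← Units.val_mul, mul_inv_cancel, Units.val_one, Matrix.one_mulVec] at h
  have h2 := congrArg (fun M => g⁻¹.val * M * g⁻¹.val) h
  simp only [← mul_assoc, ← Units.val_mul, inv_mul_cancel, Units.val_one, one_mul] at h2
  rw [h2, mul_assoc _ g.val, ← Units.val_mul, mul_inv_cancel, Units.val_one, mul_one]

theorem Compat.unique {g : GL I27 F} {C C' : GL chevE6.Idx F} (a : Compat g C) (b : Compat g C') :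
    C = C' := by
  refine Units.ext (Matrix.ext fun i j => ?_)
  have h := (a (Pi.single j 1)).symm.trans (b _)
  rw [Units.mul_left_inj] at h
  simpa using congrFun (yV_inj h) i

theorem compat_root (r : Root chevE6) (t : F) : Compat (xE (r : ℕ) t) (X good_chevE6 r t) := by
  intro v
  have hx : ∀ a y, (X good_chevE6 r t : GL chevE6.Idx F).val a y = chevE6.xMat F r t a y := by
    intro a y
    rw [coe_X, ← x_eq_xR good_chevE6, ChevalleyDatum.x, dif_pos r.isLt]
  have e : yV ((X good_chevE6 r t : GL chevE6.Idx F).val *ᵥ v) =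
      ∑ y, v y • yV (fun a => chevE6.xMat F r t a y) := by
    simp only [yV, Matrix.mulVec, dotProduct, Finset.sum_smul, Finset.smul_sum, smul_smul, hx]
    rw [Finset.sum_comm]
    exact Finset.sum_congr rfl fun y _ => Finset.sum_congr rfl fun a _ => by rw [mul_comm]
  rw [e, yV, Finset.mul_sum, Finset.sum_mul]
  exact Finset.sum_congr rfl fun y _ => by rw [mul_smul_comm, smul_mul_assoc, xE_yB]

theorem exists_compat {g : GL I27 F} (hg : g ∈ G27 F) :
    ∃ C ∈ chevE6.group F, Compat g C := by
  induction hg using Subgroup.closure_induction with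
  | mem x hx =>
    obtain ⟨⟨r, t⟩, rfl⟩ := hx
    by_cases hr : r < chevE6.nroots
    · exact ⟨_, X_mem_group good_chevE6 ⟨r, hr⟩ t, compat_root ⟨r, hr⟩ t⟩
    · have : xE r t = 1 := Units.ext (by
        simp [xE, er_high (Nat.le_of_not_lt hr), eM_nil])
      exact ⟨1, one_mem _, by show Compat (xE r t) 1; rw [this]; exact Compat.one⟩
  | one => exact ⟨1, one_mem _, Compat.one⟩
  | mul a b _ _ iha ihb =>
    obtain ⟨C, hC, hCc⟩ := iha
    obtain ⟨C', hC', hCc'⟩ := ihb
    exact ⟨C * C', mul_mem hC hC', hCc.mul hCc'⟩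
  | inv a _ iha =>
    obtain ⟨C, hC, hCc⟩ := iha
    exact ⟨C⁻¹, inv_mem hC, hCc.inv⟩

/-- Commuting with the root elements is commuting with all the vectors. -/
theorem compat_one_of_commute {g : GL I27 F} (h : ∀ r t, g * xE r t = xE r t * g) :
    Compat g 1 := by
  have hE : ∀ r : ℕ, g.val * eM F (er r) = eM F (er r) * g.val := by
    intro r
    have := congrArg Units.val (h r 1)
    simpa [xE, mul_add, add_mul] using this
  have hH : ∀ i : Fin chevE6.rank, g.val * eM F (hEnt i) = eM F (hEnt i) * g.val := by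
    intro i
    have hi : (i : ℕ) < 6 := i.isLt
    have hs : simp6 i < 72 := by
      have ht := torus_ok
      simp only [chkTorus, Bool.and_eq_true, List.all_eq_true, List.mem_range,
        decide_eq_true_eq] at ht
      exact (ht.1.1 i hi).1
    have hc := adj_ok (simp6 i) hs
    simp only [chkAdjAt, Bool.and_eq_true, chkOpp, decide_eq_true_eq] at hc
    have e := eM_of_eqE (R := F) hc.1.2.1.2
    rw [eM_mulE _ (root_spec _).1, eM_append, eM_mulE _ (root_spec _).1] at e
    have hcr : eM F (hRoot (simp6 i)) = eM F (hEnt i) := by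
      have hk := indep_ok
      simp only [chkIndep, Bool.and_eq_true, List.all_eq_true, List.mem_range, beq_iff_eq] at hk
      rw [hRoot_eq, Finset.sum_eq_single i]
      · rw [show simp6 (i : ℕ) = chevE6SimpleIdx.getD i 0 from rfl, hk.2 i hi i hi]; simp
      · intro j _ hj
        rw [show simp6 (i : ℕ) = chevE6SimpleIdx.getD i 0 from rfl, hk.2 i hi j j.isLt,
          if_neg fun e => hj (Fin.ext e.symm)]
        simp
      · simp
    rw [hcr] at e
    rw [eq_sub_of_add_eq' e.symm, mul_sub, sub_mul]
    congr 1 <;> rw [← mul_assoc, hE, mul_assoc, hE, ← mul_assoc]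
  intro v
  simp only [Units.val_one, Matrix.one_mulVec, yV, Finset.mul_sum, Finset.sum_mul, mul_smul_comm,
    smul_mul_assoc]
  refine Finset.sum_congr rfl fun a _ => congrArg _ ?_
  rcases a with i | r
  exacts [hH i, hE r]

/-- The isometry group modulo its centre. -/
theorem main {t₀ : F} (h0 : t₀ ≠ 0) (h1 : t₀ ≠ 1) :
    Nonempty (E6 F ≃* ↥(chevE6.group F)) := by
  classical
  have hU := univ_eq h0 h1
  have hex : ∀ g : ↥(E6univ F), ∃ C, C ∈ chevE6.group F ∧ Compat (g : GL I27 F) C := fun g => by
    obtain ⟨C, hC, hc⟩ := exists_compat (hU ▸ g.2 : (g : GL I27 F) ∈ G27 F)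
    exact ⟨C, hC, hc⟩
  choose C hC hc using hex
  let φ : ↥(E6univ F) →* ↥(chevE6.group F) :=
    MonoidHom.mk' (fun g => ⟨C g, hC g⟩) fun a b =>
      Subtype.ext ((hc (a * b)).unique ((hc a).mul (hc b)))
  have hsurj : Function.Surjective φ := by
    have hle : chevE6.group F ≤ φ.range.map (chevE6.group F).subtype := by
      conv_lhs => rw [group_eq_closure good_chevE6]
      rw [Subgroup.closure_le]
      rintro _ ⟨r, t, rfl⟩
      refine ⟨φ ⟨xE r t, G27_le (xE_mem _ _)⟩, ⟨_, rfl⟩, ?_⟩
      exact (hc ⟨xE r t, G27_le (xE_mem _ _)⟩).unique (compat_root r t)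
    intro y
    obtain ⟨z, ⟨g, rfl⟩, e⟩ := hle y.2
    exact ⟨g, Subtype.ext e⟩
  have hker : φ.ker = Subgroup.center ↥(E6univ F) := by
    ext g
    rw [MonoidHom.mem_ker, Subgroup.mem_center_iff]
    constructor
    · intro hg y
      have hg' : C g = 1 := congrArg Subtype.val hg
      have hcg := hc g
      rw [hg'] at hcg
      have hx : ∀ r : ℕ, (g : GL I27 F).val * eM F (er r) = eM F (er r) * (g : GL I27 F).val := by
        intro r
        by_cases hr : r < chevE6.nroots
        · have := hcg (Pi.single (Sum.inr ⟨r, hr⟩) 1)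
          rw [Units.val_one, Matrix.one_mulVec, yV_single] at this
          simpa [yV_single, yB] using this
        · simp [er_high (Nat.le_of_not_lt hr), eM_nil]
      have hle : G27 F ≤ Subgroup.centralizer {(g : GL I27 F)} := by
        refine (Subgroup.closure_le _).2 ?_
        rintro _ ⟨⟨r, t⟩, rfl⟩
        rw [SetLike.mem_coe, Subgroup.mem_centralizer_singleton_iff]
        refine Units.ext ?_
        simp [xE, mul_add, add_mul, hx r]
      have := hle (hU ▸ y.2 : (y : GL I27 F) ∈ G27 F)
      rw [Subgroup.mem_centralizer_singleton_iff] at this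
      exact Subtype.ext this
    · intro hg
      refine Subtype.ext ((hc g).unique ?_)
      refine compat_one_of_commute fun r t => ?_
      exact congrArg Subtype.val (hg ⟨xE r t, G27_le (xE_mem _ _)⟩).symm
  exact ⟨(QuotientGroup.quotientMulEquivOfEq hker.symm).trans
    (QuotientGroup.quotientKerEquivOfSurjective φ hsurj)⟩

end CfsgLib.ESix
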