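import Cfsg.Agent.ESix.Roots
import Cfsg.Agent.Chevalley.Basic

/-!
# The checks of the brackets of root and torus vectors
-/

set_option autoImplicit false
set_option maxHeartbeats 2000000

namespace CfsgLib.ESix

open Cfsg.Lie CfsgLib.Chevalley

/-- A diagonal matrix. -/
def diagE (f : ℕ → ℤ) : Ent := (List.range 27).map fun k => (k, k, f k)

/-- A diagonal vector. -/
def hEnt (i : ℕ) : Ent := diagE fun k => (wtTab.getD k []).getD i 0

/-- The vector of a coroot. -/
def hRoot (r : ℕ) : Ent :=
  diagE fun k => ((List.range 6).map fun i =>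
    (chevE6.coroot.getD r #[]).getD i 0 * (wtTab.getD k []).getD i 0).sum

/-- The brackets of a root vector with a torus vector. -/
def chkH (r i : ℕ) : Bool :=
  bdd (hEnt i) && eqE (mulE (er r) (hEnt i))
    (mulE (hEnt i) (er r) ++ smulE (-((chevE6.cartanSR.getD i #[]).getD r 0)) (er r))

/-- The bracket with the opposite root vector. -/
def chkOpp (r : ℕ) : Bool :=
  decide (chevE6.negIdx.getD r 0 = 71 - r) && decide (71 - r ≠ r) && bdd (hRoot r) &&
    eqE (mulE (er r) (er (71 - r))) (mulE (er (71 - r)) (er r) ++ hRoot r) &&
    eqE (mulE (hRoot r) (er r)) (er r)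

/-- The bracket with another root vector. -/
def chkPair (r s : ℕ) : Bool :=
  s == r || s == 71 - r ||
    match entryT chevE6 r s with
    | [] => eqE (mulE (er r) (er s)) (mulE (er s) (er r))
    | [(u, N)] => decide (u < 72) &&
        eqE (mulE (er r) (er s)) (mulE (er s) (er r) ++ smulE N (er u)) &&
        eqE (mulE (smulE N (er u)) (er r)) []
    | _ => false

/-- All brackets with one root vector. -/
def chkAdjAt (r : ℕ) : Bool :=
  ((List.range 6).all fun i => chkH r i) && chkOpp r && (List.range 72).all fun s => chkPair r s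

end CfsgLib.ESix
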