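import Cfsg.Agent.ESix.Data
import Mathlib.LinearAlgebra.Matrix.GeneralLinearGroup.Defs

/-!
# The cubic form as a sum of monomials, and sparse matrices on the 27 coordinates
-/

set_option autoImplicit false
set_option maxHeartbeats 1000000

namespace CfsgLib.ESix

open Cfsg.Lie

/-! ### Coordinates -/

/-- The number of a coordinate. -/
def ci (i : I27) : ℕ := 9 * (i.1 : ℕ) + 3 * (i.2.1 : ℕ) + (i.2.2 : ℕ)

/-- The coordinate of a number. -/
def pt (n : ℕ) : I27 := (Fin.ofNat 3 (n / 9), Fin.ofNat 3 (n / 3), Fin.ofNat 3 n)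

theorem ci_lt (i : I27) : ci i < 27 := by
  have := i.1.isLt; have := i.2.1.isLt; have := i.2.2.isLt
  unfold ci; omega

theorem pt_ci : ∀ i : I27, pt (ci i) = i := by decide +kernel

theorem ci_pt {n : ℕ} (h : n < 27) : ci (pt n) = n :=
  (show ∀ m : Fin 27, ci (pt m) = m from by decide +kernel) ⟨n, h⟩

theorem ci_injective : Function.Injective ci := fun a b h => by rw [← pt_ci a, h, pt_ci]

theorem pt_inj {a b : ℕ} (ha : a < 27) (hb : b < 27) (h : pt a = pt b) : a = b := by
  rw [← ci_pt ha, h, ci_pt hb]

/-! ### The form and its polarisations -/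

variable {R : Type*} [CommRing R]

/-- A term of the form at three vectors. -/
def term (u v w : I27 → R) (e : ℕ × ℕ × ℕ × ℤ) : R :=
  (e.2.2.2 : R) * (u (pt e.1) * v (pt e.2.1) * w (pt e.2.2.1))

/-- The form as a sum of monomials. -/
def tF (v : I27 → R) : R := (tris.map (term v v v)).sum

theorem cubicT_eq (v : I27 → R) : cubicT v = tF v := by
  simp only [cubicT, mat3, Matrix.det_fin_three, Matrix.trace, Matrix.diag, Matrix.mul_apply,
    Fin.sum_univ_three, Matrix.of_apply, tF, tris, List.map_cons, List.map_nil, List.sum_cons,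
    List.sum_nil, term, pt, Int.cast_one, Int.cast_neg, one_mul, neg_mul]
  simp only [show ∀ n : ℕ, Fin.ofNat 3 n = (⟨n % 3, Nat.mod_lt _ (by omega)⟩ : Fin 3) from
    fun n => rfl, Nat.reduceDiv, Nat.reduceMod, Fin.reduceFinMk]
  ring

/-- The coefficient of `t` in `T (v + t x)`. -/
def dF (v x : I27 → R) : R :=
  (tris.map fun e => term x v v e + term v x v e + term v v x e).sum

/-- The symmetric trilinear form. -/
def bF (u v w : I27 → R) : R :=
  (tris.map fun e => term u v w e + term u w v e + term v u w e + term v w u e + term w u v e +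
    term w v u e).sum

theorem sum_map_add {α : Type*} (f g : α → R) (L : List α) :
    (L.map fun e => f e + g e).sum = (L.map f).sum + (L.map g).sum := by
  induction L with
  | nil => simp
  | cons a L ih => simp only [List.map_cons, List.sum_cons, ih]; ring

theorem sum_map_smul {α : Type*} (c : R) (f : α → R) (L : List α) :
    (L.map fun e => c * f e).sum = c * (L.map f).sum := by
  induction L with
  | nil => simp
  | cons a L ih => simp only [List.map_cons, List.sum_cons, ih]; ring

theorem tF_add_smul (v x : I27 → R) (t : R) :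
    tF (v + t • x) = tF v + t * dF v x + t ^ 2 * dF x v + t ^ 3 * tF x := by
  simp only [tF, dF, ← sum_map_smul, ← sum_map_add]
  refine congrArg List.sum (List.map_congr_left fun e _ => ?_)
  simp only [term, Pi.add_apply, Pi.smul_apply, smul_eq_mul]
  ring

theorem dF_add (u v x : I27 → R) : dF (u + v) x = dF u x + dF v x + bF u v x := by
  simp only [dF, bF, ← sum_map_add]
  refine congrArg List.sum (List.map_congr_left fun e _ => ?_)
  simp only [term, Pi.add_apply]
  ring

/-- A map preserves the form and its first polarisation. -/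
theorem dF_invariant {F : Type*} [Field F] (f : (I27 → F) → (I27 → F))
    (hadd : ∀ a b, f (a + b) = f a + f b) (hsmul : ∀ (c : F) a, f (c • a) = c • f a)
    (hT : ∀ v, tF (f v) = tF v) {t₀ : F} (h0 : t₀ ≠ 0) (h1 : t₀ ≠ 1) (v x : I27 → F) :
    dF (f v) (f x) = dF v x := by
  have key : ∀ t : F, t * (dF (f v) (f x) - dF v x) + t ^ 2 * (dF (f x) (f v) - dF x v) = 0 := by
    intro t
    have e := hT (v + t • x)
    rw [hadd, hsmul, tF_add_smul, tF_add_smul, hT, hT] at e
    linear_combination e
  have a := key 1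
  have b := key t₀
  have hd : t₀ * (t₀ - 1) ≠ 0 := mul_ne_zero h0 (sub_ne_zero.2 h1)
  refine sub_eq_zero.1 ((mul_eq_zero.1 ?_).resolve_left hd)
  linear_combination t₀ ^ 2 * a - b

theorem bF_invariant {F : Type*} [Field F] (f : (I27 → F) → (I27 → F))
    (hadd : ∀ a b, f (a + b) = f a + f b)
    (hD : ∀ v x, dF (f v) (f x) = dF v x) (u v x : I27 → F) :
    bF (f u) (f v) (f x) = bF u v x := by
  have e := dF_add (f u) (f v) (f x)
  rw [← hadd, hD, hD, hD, dF_add] at e
  linear_combination -e

/-! ### Sparse matrices -/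

/-- Entries `(row, column, value)`. -/
abbrev Ent := List (ℕ × ℕ × ℤ)

/-- The sum of the entries at a place. -/
def entZ (L : Ent) (a b : ℕ) : ℤ :=
  ((L.filter fun e => e.1 == a && e.2.1 == b).map fun e => e.2.2).sum

/-- The matrix of a list of entries. -/
def eM (R : Type*) [CommRing R] (L : Ent) : Matrix I27 I27 R :=
  Matrix.of fun i j => (entZ L (ci i) (ci j) : R)

/-- The matrix is inside the 27 coordinates. -/
def bdd (L : Ent) : Bool := L.all fun e => decide (e.1 < 27) && decide (e.2.1 < 27)

/-- The product of two lists of entries. -/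
def mulE (L M : Ent) : Ent :=
  L.flatMap fun e => (M.filter fun f => e.2.1 == f.1).map fun f => (e.1, f.2.1, e.2.2 * f.2.2)

/-- A multiple. -/
def smulE (c : ℤ) (L : Ent) : Ent := L.map fun e => (e.1, e.2.1, c * e.2.2)

/-- Equality of two lists as matrices. -/
def eqE (L M : Ent) : Bool :=
  (L ++ M).all fun e => decide (entZ L e.1 e.2.1 = entZ M e.1 e.2.1)

theorem entZ_nil (a b : ℕ) : entZ [] a b = 0 := rfl

theorem entZ_cons (e : ℕ × ℕ × ℤ) (L : Ent) (a b : ℕ) :
    entZ (e :: L) a b = (if e.1 = a ∧ e.2.1 = b then e.2.2 else 0) + entZ L a b := by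
  unfold entZ
  by_cases h : e.1 = a ∧ e.2.1 = b
  · rw [if_pos h, List.filter_cons_of_pos (by simp [h])]; simp
  · rw [if_neg h, List.filter_cons_of_neg (by simpa using h)]; simp

theorem eM_nil : eM R [] = 0 := by ext i j; simp [eM, entZ_nil]

/-- A single entry. -/
def sgl (R : Type*) [CommRing R] (e : ℕ × ℕ × ℤ) : Matrix I27 I27 R :=
  Matrix.of fun i j => if e.1 = ci i ∧ e.2.1 = ci j then (e.2.2 : R) else 0

theorem eM_cons (e : ℕ × ℕ × ℤ) (L : Ent) : eM R (e :: L) = sgl R e + eM R L := by
  ext i j
  simp [eM, sgl, entZ_cons, apply_ite]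

theorem eM_append (L M : Ent) : eM R (L ++ M) = eM R L + eM R M := by
  induction L with
  | nil => simp [eM_nil]
  | cons e L ih => rw [List.cons_append, eM_cons, eM_cons, ih, add_assoc]

theorem eM_smulE (c : ℤ) (L : Ent) : eM R (smulE c L) = (c : R) • eM R L := by
  induction L with
  | nil => simp [smulE, eM_nil]
  | cons e L ih =>
    rw [show smulE c (e :: L) = (e.1, e.2.1, c * e.2.2) :: smulE c L from rfl, eM_cons, eM_cons, ih,
      smul_add]
    congr 1
    ext i j
    simp [sgl]

theorem eM_of_eqE {L M : Ent} (h : eqE L M = true) : eM R L = eM R M := by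
  ext i j
  simp only [eM, Matrix.of_apply]
  congr 1
  simp only [eqE, List.all_eq_true, decide_eq_true_eq] at h
  by_cases hk : ∃ e ∈ L ++ M, e.1 = ci i ∧ e.2.1 = ci j
  · obtain ⟨e, he, e1, e2⟩ := hk
    have := h e he
    rwa [e1, e2] at this
  · push Not at hk
    have z : ∀ N : Ent, (∀ e ∈ N, e ∈ L ++ M) → entZ N (ci i) (ci j) = 0 := fun N hN => by
      rw [entZ, show N.filter _ = [] from List.filter_eq_nil_iff.2 fun e he => by
        simpa using hk e (hN e he)]
      rfl
    rw [z L fun e he => List.mem_append_left _ he, z M fun e he => List.mem_append_right _ he]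

theorem sgl_mul_sgl (e f : ℕ × ℕ × ℤ) (he : e.2.1 < 27) :
    sgl R e * sgl R f = if e.2.1 = f.1 then sgl R (e.1, f.2.1, e.2.2 * f.2.2) else 0 := by
  ext i j
  rw [Matrix.mul_apply, Finset.sum_eq_single (pt e.2.1)]
  · simp only [sgl, Matrix.of_apply, ci_pt he]
    by_cases h : e.2.1 = f.1
    · simp only [h, if_true, Matrix.of_apply, true_and]
      by_cases h1 : e.1 = ci i <;> by_cases h2 : f.2.1 = ci j <;> simp [h1, h2]
    · simp [h, Ne.symm h]
  · intro k _ hk
    have : e.2.1 ≠ ci k := fun h => hk (by rw [h, pt_ci])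
    simp [sgl, this]
  · simp

theorem eM_mulE {L : Ent} (M : Ent) (hL : bdd L = true) : eM R (mulE L M) = eM R L * eM R M := by
  induction L with
  | nil => simp [mulE, eM_nil]
  | cons e L ih =>
    simp only [bdd, List.all_cons, Bool.and_eq_true, decide_eq_true_eq] at hL
    rw [mulE, List.flatMap_cons, eM_append, ← mulE, ih hL.2, eM_cons, add_mul]
    congr 1
    clear ih
    induction M with
    | nil => simp [eM_nil]
    | cons f M ihM =>
      rw [eM_cons, mul_add, sgl_mul_sgl e f hL.1.2]
      by_cases h : e.2.1 = f.1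
      · rw [List.filter_cons_of_pos (by simpa using h), List.map_cons, eM_cons, ihM, if_pos h]
      · rw [List.filter_cons_of_neg (by simpa using h), ihM, if_neg h, zero_add]

theorem eM_mulVec (L : Ent) (hL : bdd L = true) (v : I27 → R) (i : I27) :
    Matrix.mulVec (eM R L) v i =
      ((L.filter fun e => e.1 == ci i).map fun e => (e.2.2 : R) * v (pt e.2.1)).sum := by
  induction L with
  | nil => simp [eM_nil]
  | cons e L ih =>
    simp only [bdd, List.all_cons, Bool.and_eq_true, decide_eq_true_eq] at hL
    rw [eM_cons, Matrix.add_mulVec, Pi.add_apply, ih hL.2]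
    have hs : Matrix.mulVec (sgl R e) v i = if e.1 = ci i then (e.2.2 : R) * v (pt e.2.1) else 0 := by
      rw [Matrix.mulVec, dotProduct, Finset.sum_eq_single (pt e.2.1)]
      · simp only [sgl, Matrix.of_apply, ci_pt hL.1.2, and_true]
        split_ifs <;> simp
      · intro k _ hk
        have : e.2.1 ≠ ci k := fun h => hk (by rw [h, pt_ci])
        simp [sgl, this]
      · simp
    rw [hs]
    by_cases h : e.1 = ci i <;> simp [h]

end CfsgLib.ESix
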