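import Cfsg.Prelude.Def_ChevE6
import Cfsg.Prelude.Def_E6

/-!
# E₆ on the 27 coordinates of the cubic form: tables

Coordinate `9k + 3i + j` is the entry `(i, j)` of the `k`-th matrix.  A root vector has six entries
`(row, column, sign)`; a step of the elimination names the next coordinate, an optional witness, the
reflections moving the possible pivots and the sixteen neighbours with their roots.
-/

set_option autoImplicit false
set_option maxHeartbeats 4000000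
set_option maxRecDepth 4000

namespace CfsgLib.ESix

/-- The monomials of the cubic form. -/
def tris : List (ℕ × ℕ × ℕ × ℤ) :=
  [(0, 4, 8, 1), (0, 5, 7, -1), (1, 3, 8, -1), (1, 5, 6, 1), (2, 3, 7, 1), (2, 4, 6, -1),
    (9, 13, 17, 1), (9, 14, 16, -1), (10, 12, 17, -1), (10, 14, 15, 1), (11, 12, 16, 1),
    (11, 13, 15, -1), (18, 22, 26, 1), (18, 23, 25, -1), (19, 21, 26, -1), (19, 23, 24, 1),
    (20, 21, 25, 1), (20, 22, 24, -1), (0, 9, 18, -1), (0, 10, 21, -1), (0, 11, 24, -1),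
    (1, 12, 18, -1), (1, 13, 21, -1), (1, 14, 24, -1), (2, 15, 18, -1), (2, 16, 21, -1),
    (2, 17, 24, -1), (3, 9, 19, -1), (3, 10, 22, -1), (3, 11, 25, -1), (4, 12, 19, -1),
    (4, 13, 22, -1), (4, 14, 25, -1), (5, 15, 19, -1), (5, 16, 22, -1), (5, 17, 25, -1),
    (6, 9, 20, -1), (6, 10, 23, -1), (6, 11, 26, -1), (7, 12, 20, -1), (7, 13, 23, -1),
    (7, 14, 26, -1), (8, 15, 20, -1), (8, 16, 23, -1), (8, 17, 26, -1)]

/-- The entries of the root vectors. -/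
def eTab : List (List (ℕ × ℕ × ℤ)) :=
  [[(25, 2, 1), (24, 5, -1), (7, 11, 1), (6, 14, -1), (16, 20, 1), (15, 23, -1)],
    [(16, 1, 1), (13, 2, -1), (24, 9, -1), (18, 11, 1), (6, 22, 1), (3, 23, -1)],
    [(26, 2, 1), (24, 8, -1), (4, 11, -1), (3, 14, 1), (16, 19, -1), (15, 22, 1)],
    [(16, 0, 1), (10, 2, -1), (24, 12, 1), (18, 14, -1), (7, 22, -1), (4, 23, 1)],
    [(10, 11, 1), (13, 14, 1), (16, 17, 1), (24, 21, -1), (25, 22, -1), (26, 23, -1)],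
    [(0, 2, 1), (3, 5, 1), (6, 8, 1), (15, 9, -1), (16, 10, -1), (17, 11, -1)],
    [(19, 2, 1), (18, 5, -1), (7, 9, 1), (6, 12, -1), (17, 23, 1), (16, 26, -1)],
    [(16, 4, -1), (13, 5, 1), (25, 9, 1), (19, 11, -1), (6, 21, 1), (0, 23, -1)],
    [(1, 2, 1), (4, 5, 1), (7, 8, 1), (15, 12, -1), (16, 13, -1), (17, 14, -1)],
    [(26, 5, -1), (25, 8, 1), (1, 11, -1), (0, 14, 1), (16, 18, -1), (15, 21, 1)],
    [(16, 3, -1), (10, 5, 1), (25, 12, -1), (19, 14, 1), (7, 21, -1), (1, 23, 1)],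
    [(20, 2, -1), (18, 8, 1), (4, 9, 1), (3, 12, -1), (17, 22, 1), (16, 25, -1)],
    [(16, 7, 1), (13, 8, -1), (26, 9, -1), (20, 11, 1), (3, 21, 1), (0, 22, -1)],
    [(10, 9, 1), (13, 12, 1), (16, 15, 1), (18, 21, -1), (19, 22, -1), (20, 23, -1)],
    [(16, 6, -1), (10, 8, 1), (26, 12, -1), (20, 14, 1), (4, 21, 1), (1, 22, -1)],
    [(20, 5, 1), (19, 8, -1), (1, 9, 1), (0, 12, -1), (17, 21, 1), (16, 24, -1)],
    [(15, 1, 1), (12, 2, -1), (24, 10, 1), (21, 11, -1), (6, 19, 1), (3, 20, -1)],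
    [(6, 0, -1), (7, 1, -1), (8, 2, -1), (18, 20, 1), (21, 23, 1), (24, 26, 1)],
    [(25, 1, -1), (24, 4, 1), (8, 11, 1), (6, 17, -1), (13, 20, -1), (12, 23, 1)],
    [(15, 0, -1), (9, 2, 1), (24, 13, 1), (21, 14, -1), (7, 19, 1), (4, 20, -1)],
    [(9, 11, -1), (12, 14, -1), (15, 17, -1), (24, 18, 1), (25, 19, 1), (26, 20, 1)],
    [(25, 0, -1), (24, 3, 1), (8, 14, -1), (7, 17, 1), (10, 20, -1), (9, 23, 1)],
    [(22, 2, 1), (21, 5, -1), (7, 10, 1), (6, 13, -1), (17, 20, -1), (15, 26, 1)],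
    [(15, 4, 1), (12, 5, -1), (25, 10, 1), (22, 11, -1), (6, 18, -1), (0, 20, 1)],
    [(6, 3, -1), (7, 4, -1), (8, 5, -1), (19, 20, 1), (22, 23, 1), (25, 26, 1)],
    [(15, 3, -1), (9, 5, 1), (25, 13, 1), (22, 14, -1), (7, 18, -1), (1, 20, 1)],
    [(3, 0, -1), (4, 1, -1), (5, 2, -1), (18, 19, 1), (21, 22, 1), (24, 25, 1)],
    [(26, 1, 1), (24, 7, -1), (5, 11, 1), (3, 17, -1), (13, 19, -1), (12, 22, 1)],
    [(13, 0, 1), (10, 1, -1), (24, 15, -1), (18, 17, 1), (8, 22, 1), (5, 23, -1)],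
    [(26, 0, -1), (24, 6, 1), (5, 14, 1), (4, 17, -1), (10, 19, 1), (9, 22, -1)],
    [(17, 1, 1), (14, 2, -1), (21, 9, 1), (18, 10, -1), (6, 25, 1), (3, 26, -1)],
    [(0, 1, -1), (3, 4, -1), (6, 7, -1), (12, 9, 1), (13, 10, 1), (14, 11, 1)],
    [(19, 1, -1), (18, 4, 1), (8, 9, 1), (6, 15, -1), (14, 23, -1), (13, 26, 1)],
    [(23, 2, 1), (21, 8, -1), (4, 10, -1), (3, 13, 1), (17, 19, 1), (15, 25, -1)],
    [(15, 7, 1), (12, 8, -1), (26, 10, 1), (23, 11, -1), (3, 18, 1), (0, 19, -1)],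
    [(17, 0, 1), (11, 2, -1), (21, 12, -1), (18, 13, 1), (7, 25, -1), (4, 26, 1)],
    [(26, 4, 1), (25, 7, -1), (2, 11, -1), (0, 17, 1), (13, 18, 1), (12, 21, -1)],
    [(19, 0, -1), (18, 3, 1), (8, 12, -1), (7, 15, 1), (11, 23, -1), (10, 26, 1)],
    [(13, 3, 1), (10, 4, -1), (25, 15, -1), (19, 17, 1), (8, 21, -1), (2, 23, 1)],
    [(15, 6, -1), (9, 8, 1), (26, 13, 1), (23, 14, -1), (4, 18, 1), (1, 19, -1)],
    [(1, 0, -1), (4, 3, -1), (7, 6, -1), (9, 12, 1), (10, 13, 1), (11, 14, 1)],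
    [(26, 3, -1), (25, 6, 1), (2, 14, -1), (1, 17, 1), (10, 18, -1), (9, 21, 1)],
    [(17, 4, -1), (14, 5, 1), (22, 9, -1), (19, 10, 1), (6, 24, 1), (0, 26, -1)],
    [(23, 5, -1), (22, 8, 1), (1, 10, -1), (0, 13, 1), (17, 18, 1), (15, 24, -1)],
    [(17, 3, -1), (11, 5, 1), (22, 12, 1), (19, 13, -1), (7, 24, -1), (1, 26, 1)],
    [(0, 3, -1), (1, 4, -1), (2, 5, -1), (19, 18, 1), (22, 21, 1), (25, 24, 1)],
    [(20, 1, 1), (18, 7, -1), (5, 9, 1), (3, 15, -1), (14, 22, -1), (13, 25, 1)],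
    [(3, 6, -1), (4, 7, -1), (5, 8, -1), (20, 19, 1), (23, 22, 1), (26, 25, 1)],
    [(20, 0, 1), (18, 6, -1), (5, 12, -1), (4, 15, 1), (11, 22, -1), (10, 25, 1)],
    [(13, 6, -1), (10, 7, 1), (26, 15, 1), (20, 17, -1), (5, 21, -1), (2, 22, 1)],
    [(17, 7, 1), (14, 8, -1), (23, 9, 1), (20, 10, -1), (3, 24, 1), (0, 25, -1)],
    [(11, 9, -1), (14, 12, -1), (17, 15, -1), (18, 24, 1), (19, 25, 1), (20, 26, 1)],
    [(20, 4, -1), (19, 7, 1), (2, 9, 1), (0, 15, -1), (14, 21, -1), (13, 24, 1)],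
    [(17, 6, -1), (11, 8, 1), (23, 12, 1), (20, 13, -1), (4, 24, 1), (1, 25, -1)],
    [(0, 6, -1), (1, 7, -1), (2, 8, -1), (20, 18, 1), (23, 21, 1), (26, 24, 1)],
    [(20, 3, -1), (19, 6, 1), (2, 12, -1), (1, 15, 1), (11, 21, -1), (10, 24, 1)],
    [(12, 0, -1), (9, 1, 1), (24, 16, -1), (21, 17, 1), (8, 19, -1), (5, 20, 1)],
    [(22, 1, -1), (21, 4, 1), (8, 10, 1), (6, 16, -1), (14, 20, 1), (12, 26, -1)],
    [(9, 10, 1), (12, 13, 1), (15, 16, 1), (21, 18, -1), (22, 19, -1), (23, 20, -1)],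
    [(22, 0, -1), (21, 3, 1), (8, 13, -1), (7, 16, 1), (11, 20, 1), (9, 26, -1)],
    [(12, 3, -1), (9, 4, 1), (25, 16, -1), (22, 17, 1), (8, 18, 1), (2, 20, -1)],
    [(23, 1, 1), (21, 7, -1), (5, 10, 1), (3, 16, -1), (14, 19, 1), (12, 25, -1)],
    [(14, 0, 1), (11, 1, -1), (21, 15, 1), (18, 16, -1), (8, 25, 1), (5, 26, -1)],
    [(2, 1, 1), (5, 4, 1), (8, 7, 1), (12, 15, -1), (13, 16, -1), (14, 17, -1)],
    [(23, 0, -1), (21, 6, 1), (5, 13, 1), (4, 16, -1), (11, 19, -1), (9, 25, 1)],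
    [(12, 6, -1), (9, 7, 1), (26, 16, -1), (23, 17, 1), (5, 18, -1), (2, 19, 1)],
    [(2, 0, 1), (5, 3, 1), (8, 6, 1), (9, 15, -1), (10, 16, -1), (11, 17, -1)],
    [(11, 10, 1), (14, 13, 1), (17, 16, 1), (21, 24, -1), (22, 25, -1), (23, 26, -1)],
    [(23, 4, 1), (22, 7, -1), (2, 10, -1), (0, 16, 1), (14, 18, -1), (12, 24, 1)],
    [(14, 3, 1), (11, 4, -1), (22, 15, 1), (19, 16, -1), (8, 24, -1), (2, 26, 1)],
    [(23, 3, -1), (22, 6, 1), (2, 13, -1), (1, 16, 1), (11, 18, 1), (9, 24, -1)],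
    [(14, 6, -1), (11, 7, 1), (23, 15, -1), (20, 16, 1), (5, 24, -1), (2, 25, 1)]]

/-- The weights of the coordinates on the fundamental coroots. -/
def wtTab : List (List ℤ) :=
  [[-1, 0, 1, 0, -1, 1], [-1, -1, 0, 1, 0, 0], [0, 0, 0, 0, 0, 1], [0, 1, 0, 0, -1, 0],
    [0, 0, -1, 1, 0, -1], [1, 1, -1, 0, 0, 0], [0, 0, 1, -1, 0, 0], [0, -1, 0, 0, 1, -1],
    [1, 0, 0, -1, 1, 0], [1, -1, -1, 1, 0, 0], [0, 0, -1, 0, 1, 0], [0, 0, 0, 0, 1, -1],
    [1, 0, 0, 0, -1, 1], [0, 1, 0, -1, 0, 1], [0, 1, 1, -1, 0, 0], [0, -1, 0, 1, -1, 0],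
    [-1, 0, 0, 0, 0, 0], [-1, 0, 1, 0, 0, -1], [0, 1, 0, -1, 1, -1], [-1, 0, 1, -1, 1, 0],
    [-1, 1, 0, 0, 0, 0], [1, 0, 0, 0, 0, -1], [0, -1, 1, 0, 0, 0], [0, 0, 0, 1, -1, 0],
    [1, 0, -1, 0, 0, 0], [0, -1, 0, 0, 0, 1], [0, 0, -1, 1, -1, 1]]

/-- A step of the elimination. -/
structure Step where
  /-- the coordinate to fix -/
  f : ℕ
  /-- a fixed coordinate whose triangle gives the pivot -/
  wit : Option ℕ
  /-- reflections taking a possible pivot to `f` -/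
  moves : List (ℕ × List ℕ)
  /-- the neighbours, the roots leading to them and the signs -/
  nbs : List (ℕ × ℕ × ℤ)

/-- The steps. -/
def steps : List Step :=
  [⟨0, none, [(0, []), (1, [31]), (2, [5]), (3, [45]), (4, [45, 31]), (5, [45, 5]), (6, [54]), (7,
        [54, 31]), (8, [54, 5]), (9, [15, 31]), (10, [43, 31]), (11, [9, 31]), (12, [15]), (13,
        [43]), (14, [9]), (15, [52]), (16, [68]), (17, [36]), (18, [34, 45]), (19, [34]), (20,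
        [23]), (21, [12, 45]), (22, [12]), (23, [7]), (24, [50, 45]), (25, [50]), (26, [42])],
      [(1, 40, -1), (2, 66, 1), (3, 26, -1), (6, 17, -1), (12, 56, -1), (13, 28, 1), (14, 62, 1),
        (15, 19, -1), (16, 3, 1), (17, 35, 1), (19, 37, -1), (20, 48, 1), (22, 59, -1), (23, 64,
        -1), (25, 21, -1), (26, 29, -1)]⟩,
    ⟨1, none, [(1, []), (2, [8]), (3, [25, 55]), (6, [39, 55]), (12, [55, 8]), (13, [70, 8]), (14,
        [41, 8]), (15, [55]), (16, [70]), (17, [41]), (19, [39]), (20, [25]), (22, [14]), (23,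
        [10]), (25, [53]), (26, [44])],
      [(0, 31, -1), (2, 63, 1), (4, 26, -1), (7, 17, -1), (9, 56, 1), (10, 28, -1), (11, 62, -1),
        (15, 16, 1), (16, 1, 1), (17, 30, 1), (19, 32, -1), (20, 46, 1), (22, 57, -1), (23, 61,
        1), (25, 18, -1), (26, 27, 1)]⟩,
    ⟨2, none, [(2, []), (15, [69, 49]), (16, [69, 65]), (17, [38, 65]), (19, [65]), (20, [60]),
        (22, [49]), (23, [38]), (25, [71]), (26, [69])],
      [(0, 5, 1), (1, 8, 1), (5, 26, -1), (8, 17, -1), (9, 19, 1), (10, 3, -1), (11, 35, -1), (12,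
        16, -1), (13, 1, -1), (14, 30, -1), (19, 6, 1), (20, 11, -1), (22, 22, 1), (23, 33, 1),
        (25, 0, 1), (26, 2, 1)]⟩,
    ⟨19, none, [(19, []), (20, [24]), (22, [13]), (23, [13, 24]), (25, [51]), (26, [51, 24])],
      [(0, 34, -1), (1, 39, -1), (2, 65, 1), (6, 16, 1), (7, 19, 1), (8, 56, -1), (10, 29, 1),
        (11, 64, -1), (13, 27, -1), (14, 61, 1), (16, 2, -1), (17, 33, 1), (18, 26, 1), (20, 47,
        1), (22, 58, -1), (25, 20, 1)]⟩,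
    ⟨10, some 0, [(10, []), (11, [4])],
      [(1, 43, -1), (2, 68, -1), (4, 33, -1), (5, 61, 1), (7, 22, 1), (8, 57, 1), (9, 58, 1), (11,
        67, 1), (13, 31, 1), (16, 5, -1), (18, 30, -1), (19, 42, 1), (20, 50, -1), (24, 16, 1),
        (25, 23, 1), (26, 34, 1)]⟩,
    ⟨11, some 0, [(11, [])],
      [(1, 9, -1), (2, 36, -1), (4, 2, -1), (5, 27, 1), (7, 0, 1), (8, 18, 1), (9, 20, -1), (10,
        4, 1), (14, 31, 1), (17, 5, -1), (18, 1, 1), (19, 7, -1), (20, 12, 1), (21, 16, -1), (22,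
        23, -1), (23, 34, -1)]⟩,
    ⟨20, none, [(20, [])],
      [(0, 23, 1), (1, 25, 1), (2, 60, -1), (3, 16, -1), (4, 19, -1), (5, 56, 1), (10, 21, -1),
        (11, 59, 1), (13, 18, -1), (14, 57, 1), (16, 0, 1), (17, 22, -1), (18, 17, 1), (19, 24,
        1), (23, 58, -1), (26, 20, 1)]⟩,
    ⟨13, none, [(13, [])],
      [(0, 43, 1), (2, 70, -1), (3, 33, 1), (5, 64, 1), (6, 22, -1), (8, 59, -1), (10, 40, 1),
        (12, 58, 1), (14, 67, 1), (16, 8, -1), (18, 35, 1), (19, 44, -1), (20, 53, -1), (24, 19,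
        1), (25, 25, 1), (26, 39, 1)]⟩,
    ⟨14, none, [(14, [])],
      [(0, 9, 1), (2, 41, -1), (3, 2, 1), (5, 29, 1), (6, 0, -1), (8, 21, -1), (11, 40, 1), (12,
        20, -1), (13, 4, 1), (17, 8, -1), (18, 3, -1), (19, 10, 1), (20, 14, 1), (21, 19, -1),
        (22, 25, -1), (23, 39, -1)]⟩,
    ⟨5, none, [(5, [])],
      [(2, 45, -1), (3, 5, 1), (4, 8, 1), (8, 24, -1), (9, 25, 1), (10, 10, 1), (11, 44, 1), (12,
        23, -1), (13, 7, 1), (14, 42, 1), (18, 6, -1), (20, 15, 1), (21, 22, -1), (23, 43, -1),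
        (24, 0, -1), (26, 9, -1)]⟩,
    ⟨8, none, [(8, [])],
      [(2, 54, -1), (5, 47, -1), (6, 5, 1), (7, 8, 1), (9, 39, 1), (10, 14, 1), (11, 53, 1), (12,
        34, -1), (13, 12, -1), (14, 50, -1), (18, 11, 1), (19, 15, -1), (21, 33, -1), (22, 43, 1),
        (24, 2, -1), (25, 9, 1)]⟩,
    ⟨18, none, [(18, [])],
      [(3, 34, 1), (4, 39, 1), (5, 65, -1), (6, 23, -1), (7, 25, -1), (8, 60, 1), (10, 41, -1),
        (11, 70, 1), (13, 36, 1), (14, 68, -1), (16, 9, -1), (17, 43, 1), (19, 45, 1), (20, 54,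
        1), (21, 58, -1), (24, 20, 1)]⟩,
    ⟨16, none, [(16, [])],
      [(0, 68, 1), (1, 70, 1), (3, 61, -1), (4, 64, -1), (6, 57, -1), (7, 59, 1), (10, 66, -1),
        (13, 63, -1), (15, 58, 1), (17, 67, 1), (18, 62, -1), (19, 69, -1), (20, 71, 1), (24, 56,
        -1), (25, 60, -1), (26, 65, -1)]⟩,
    ⟨17, none, [(17, [])],
      [(0, 36, 1), (1, 41, 1), (3, 27, -1), (4, 29, -1), (6, 18, -1), (7, 21, 1), (11, 66, -1),
        (14, 63, -1), (15, 20, -1), (16, 4, 1), (18, 28, 1), (19, 38, 1), (20, 49, -1), (21, 56,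
        1), (22, 60, 1), (23, 65, 1)]⟩,
    ⟨3, none, [(3, [])],
      [(0, 45, -1), (4, 40, -1), (5, 66, 1), (6, 24, -1), (12, 60, -1), (13, 38, 1), (14, 69, 1),
        (15, 25, -1), (16, 10, -1), (17, 44, -1), (18, 37, 1), (20, 55, -1), (21, 59, 1), (23, 70,
        -1), (24, 21, 1), (26, 41, -1)]⟩,
    ⟨4, none, [(4, [])],
      [(1, 45, -1), (3, 31, -1), (5, 63, 1), (7, 24, -1), (9, 60, 1), (10, 38, -1), (11, 69, -1),
        (15, 23, 1), (16, 7, -1), (17, 42, -1), (18, 32, 1), (20, 52, -1), (21, 57, 1), (23, 68,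
        1), (24, 18, 1), (26, 36, 1)]⟩,
    ⟨23, none, [(23, [])],
      [(0, 7, -1), (1, 10, 1), (2, 38, 1), (3, 1, -1), (4, 3, 1), (5, 28, -1), (9, 21, 1), (11,
        37, -1), (12, 18, 1), (14, 32, -1), (15, 0, -1), (17, 6, 1), (20, 13, -1), (21, 17, 1),
        (22, 24, 1), (26, 4, -1)]⟩,
    ⟨26, none, [(26, [])],
      [(0, 42, -1), (1, 44, 1), (2, 69, 1), (3, 30, -1), (4, 35, 1), (5, 62, -1), (9, 59, -1),
        (10, 37, 1), (12, 57, -1), (13, 32, 1), (15, 22, 1), (16, 6, -1), (20, 51, 1), (23, 67,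
        -1), (24, 17, 1), (25, 24, 1)]⟩,
    ⟨6, none, [(6, [])],
      [(0, 54, -1), (3, 47, -1), (7, 40, -1), (8, 66, 1), (12, 65, -1), (13, 49, -1), (14, 71,
        -1), (15, 39, -1), (16, 14, -1), (17, 53, -1), (18, 48, -1), (19, 55, 1), (21, 64, 1),
        (22, 70, 1), (24, 29, 1), (25, 41, 1)]⟩,
    ⟨7, none, [(7, [])],
      [(1, 54, -1), (4, 47, -1), (6, 31, -1), (8, 63, 1), (9, 65, 1), (10, 49, 1), (11, 71, 1),
        (15, 34, 1), (16, 12, 1), (17, 50, 1), (18, 46, -1), (19, 52, 1), (21, 61, -1), (22, 68,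
        -1), (24, 27, -1), (25, 36, -1)]⟩,
    ⟨21, none, [(21, [])],
      [(3, 12, 1), (4, 14, 1), (5, 49, -1), (6, 7, 1), (7, 10, -1), (8, 38, -1), (9, 41, 1), (11,
        55, -1), (12, 36, -1), (14, 52, -1), (15, 9, 1), (17, 15, 1), (18, 13, -1), (22, 45, 1),
        (23, 54, 1), (24, 4, -1)]⟩,
    ⟨22, none, [(22, [])],
      [(0, 12, -1), (1, 14, -1), (2, 49, 1), (6, 1, 1), (7, 3, -1), (8, 28, 1), (9, 29, -1), (11,
        48, -1), (12, 27, 1), (14, 46, -1), (15, 2, 1), (17, 11, 1), (19, 13, -1), (21, 26, 1),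
        (23, 47, 1), (25, 4, -1)]⟩,
    ⟨9, none, [(9, [])],
      [(1, 15, 1), (2, 52, 1), (4, 11, 1), (5, 46, 1), (7, 6, 1), (8, 32, 1), (10, 13, 1), (11,
        51, -1), (12, 31, 1), (15, 5, -1), (21, 30, 1), (22, 42, -1), (23, 50, 1), (24, 1, -1),
        (25, 7, 1), (26, 12, -1)]⟩,
    ⟨12, none, [(12, [])],
      [(0, 15, -1), (2, 55, -1), (3, 11, -1), (5, 48, -1), (6, 6, -1), (8, 37, -1), (9, 40, 1),
        (13, 13, 1), (14, 51, -1), (15, 8, -1), (21, 35, -1), (22, 44, 1), (23, 53, 1), (24, 3,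
        1), (25, 10, -1), (26, 14, -1)]⟩,
    ⟨15, none, [(15, [])],
      [(0, 52, -1), (1, 55, 1), (3, 46, -1), (4, 48, 1), (6, 32, -1), (7, 37, 1), (9, 66, -1),
        (12, 63, -1), (16, 13, 1), (17, 51, -1), (21, 62, 1), (22, 69, 1), (23, 71, -1), (24, 28,
        -1), (25, 38, -1), (26, 49, 1)]⟩,
    ⟨24, none, [(24, [])],
      [(3, 50, 1), (4, 53, 1), (5, 71, -1), (6, 42, 1), (7, 44, -1), (8, 69, -1), (9, 70, -1),
        (10, 55, 1), (12, 68, 1), (13, 52, 1), (15, 43, -1), (16, 15, -1), (18, 51, 1), (21, 67,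
        -1), (25, 45, 1), (26, 54, 1)]⟩,
    ⟨25, none, [(25, [])],
      [(0, 50, -1), (1, 53, -1), (2, 71, 1), (6, 30, 1), (7, 35, -1), (8, 62, 1), (9, 64, 1), (10,
        48, 1), (12, 61, -1), (13, 46, 1), (15, 33, -1), (16, 11, -1), (19, 51, 1), (22, 67, -1),
        (24, 26, 1), (26, 47, 1)]⟩]

/-- Six coordinates whose weights are a basis. -/
def six : List ℕ := [0, 1, 2, 3, 9, 10]

/-- The inverse of their weights. -/
def sixInv : List (List ℤ) :=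
  [[-1, 0, 1, 0, 0, -1], [-2, 1, 2, 1, -1, -1], [-2, 1, 2, 0, -1, -2], [-3, 2, 3, 1, -1, -2],
    [-2, 1, 2, 0, -1, -1], [0, 0, 1, 0, 0, 0]]

/-- Triangles reaching every coordinate from the six. -/
def propag : List (ℕ × ℕ × ℕ) :=
  [(0, 9, 18), (0, 10, 21), (1, 3, 8), (0, 8, 4), (1, 18, 12), (1, 21, 13), (2, 3, 7), (0, 7, 5),
    (1, 5, 6), (2, 18, 15), (2, 21, 16), (3, 9, 19), (3, 10, 22), (6, 9, 20), (6, 10, 23),
    (9, 13, 17), (2, 17, 24), (0, 24, 11), (1, 24, 14), (3, 11, 25), (6, 11, 26)]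

end CfsgLib.ESix
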