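import Cfsg.Agent.ESix.Basic

/-!
# The root elements on the 27 coordinates and the isometry group of the form
-/

set_option autoImplicit false
set_option maxHeartbeats 1000000

namespace CfsgLib.ESix

open Cfsg.Lie
open scoped MatrixGroups Matrix

/-- The entries of a root vector. -/
def er (r : ℕ) : Ent := eTab.getD r []

/-- Sort three numbers. -/
def sort3 (a b c : ℕ) : ℕ × ℕ × ℕ :=
  if a ≤ b then (if b ≤ c then (a, b, c) else if a ≤ c then (a, c, b) else (c, a, b))
  else (if a ≤ c then (b, a, c) else if b ≤ c then (b, c, a) else (c, b, a))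

/-- A monomial with its coefficient. -/
abbrev Mon := ℤ × ℕ × ℕ × ℕ

/-- The key of a monomial. -/
def key (m : Mon) : ℕ × ℕ × ℕ := sort3 m.2.1 m.2.2.1 m.2.2.2

/-- The coefficients of every key add up to zero. -/
def zeroM : ℕ → List Mon → Bool
  | _, [] => true
  | 0, _ :: _ => false
  | n + 1, m :: L =>
    decide ((((m :: L).filter fun x => key x == key m).map Prod.fst).sum = 0) &&
      zeroM n ((m :: L).filter fun x => !(key x == key m))

/-- A coordinate as a linear form. -/
def lin0 (a : ℕ) : List (ℤ × ℕ) := [(1, a)]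

/-- A coordinate of the image under a root vector. -/
def linE (r a : ℕ) : List (ℤ × ℕ) := ((er r).filter fun e => e.1 == a).map fun e => (e.2.2, e.2.1)

/-- The product of three linear forms. -/
def expand (s : ℤ) (A B C : List (ℤ × ℕ)) : List Mon :=
  A.flatMap fun a => B.flatMap fun b => C.map fun c => (s * a.1 * b.1 * c.1, a.2, b.2, c.2)

/-- The coefficient of `t` in the change of the form. -/
def first (r : ℕ) : List Mon :=
  tris.flatMap fun e =>
    expand e.2.2.2 (linE r e.1) (lin0 e.2.1) (lin0 e.2.2.1) ++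
      expand e.2.2.2 (lin0 e.1) (linE r e.2.1) (lin0 e.2.2.1) ++
      expand e.2.2.2 (lin0 e.1) (lin0 e.2.1) (linE r e.2.2.1)

/-- The coefficient of `t²`. -/
def second (r : ℕ) : List Mon :=
  tris.flatMap fun e =>
    expand e.2.2.2 (lin0 e.1) (linE r e.2.1) (linE r e.2.2.1) ++
      expand e.2.2.2 (linE r e.1) (lin0 e.2.1) (linE r e.2.2.1) ++
      expand e.2.2.2 (linE r e.1) (linE r e.2.1) (lin0 e.2.2.1)

/-- The coefficient of `t³`. -/
def third (r : ℕ) : List Mon :=
  tris.flatMap fun e => expand e.2.2.2 (linE r e.1) (linE r e.2.1) (linE r e.2.2.1)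

/-- The checks on a root vector and the opposite one. -/
def chkRoot (r : ℕ) : Bool :=
  bdd (er r) && (mulE (er r) (er r)).isEmpty &&
    ((er r).all fun e => (e.2.2 == 1 || e.2.2 == -1) && (er (71 - r)).contains (e.2.1, e.1, e.2.2) &&
      (er r).all fun f => (!(e.2.1 == f.2.1) || e == f) && (!(e.1 == f.1) || e == f) &&
        !(e.1 == f.2.1)) &&
    zeroM 300 (first r) && zeroM 300 (second r) && zeroM 300 (third r)

theorem roots_ok : (List.range 72).all chkRoot = true := by decide +kernel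

theorem er_high {r : ℕ} (h : 72 ≤ r) : er r = [] :=
  List.getD_eq_default _ _ (le_trans (by decide +kernel) h)

theorem root_spec (r : ℕ) :
    bdd (er r) = true ∧ mulE (er r) (er r) = [] ∧
      (∀ e ∈ er r, (e.2.2 = 1 ∨ e.2.2 = -1) ∧ (e.2.1, e.1, e.2.2) ∈ er (71 - r) ∧
        ∀ f ∈ er r, (e.2.1 = f.2.1 → e = f) ∧ (e.1 = f.1 → e = f) ∧ e.1 ≠ f.2.1) ∧
      zeroM 300 (first r) = true ∧ zeroM 300 (second r) = true ∧ zeroM 300 (third r) = true := by
  by_cases h : r < 72
  · have := List.all_eq_true.1 roots_ok r (List.mem_range.2 h)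
    simp only [chkRoot, Bool.and_eq_true, List.all_eq_true, List.isEmpty_iff, Bool.or_eq_true,
      beq_iff_eq, Bool.not_eq_true', beq_eq_false_iff_ne, ne_eq, List.contains_iff_mem] at this
    obtain ⟨⟨⟨⟨⟨a, b⟩, c⟩, d⟩, e⟩, f⟩ := this
    exact ⟨a, b, fun x hx => ⟨(c x hx).1.1, (c x hx).1.2, fun y hy =>
      ⟨fun h' => ((c x hx).2 y hy).1.1.resolve_left (not_not.2 h'),
        fun h' => ((c x hx).2 y hy).1.2.resolve_left (not_not.2 h'), ((c x hx).2 y hy).2⟩⟩, d, e, f⟩
  · have he := er_high (Nat.le_of_not_lt h)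
    have hl : ∀ a, linE r a = [] := fun a => by simp [linE, he]
    have hz : first r = [] ∧ second r = [] ∧ third r = [] := by
      simp [first, second, third, expand, hl]
    simp [he, bdd, mulE, hz, zeroM]

variable {R : Type*} [CommRing R]

/-- The value of monomials. -/
def evalM (v : I27 → R) (L : List Mon) : R :=
  (L.map fun m => (m.1 : R) * (v (pt m.2.1) * v (pt m.2.2.1) * v (pt m.2.2.2))).sum

/-- The value at a key. -/
def kval (v : I27 → R) (k : ℕ × ℕ × ℕ) : R := v (pt k.1) * v (pt k.2.1) * v (pt k.2.2)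

theorem kval_key (v : I27 → R) (m : Mon) :
    v (pt m.2.1) * v (pt m.2.2.1) * v (pt m.2.2.2) = kval v (key m) := by
  unfold kval key sort3
  split_ifs <;> simp only <;> ring

theorem evalM_split (v : I27 → R) (p : Mon → Bool) (L : List Mon) :
    evalM v L = evalM v (L.filter p) + evalM v (L.filter fun x => !p x) := by
  induction L with
  | nil => simp [evalM]
  | cons m L ih =>
    simp only [evalM, List.map_cons, List.sum_cons] at ih ⊢
    cases h : p m <;> simp [h, ih] <;> ring

theorem evalM_const (v : I27 → R) (k : ℕ × ℕ × ℕ) : ∀ L : List Mon, (∀ m ∈ L, key m = k) →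
    evalM v L = (((L.map Prod.fst).sum : ℤ) : R) * kval v k
  | [], _ => by simp [evalM]
  | m :: L, h => by
    have ih := evalM_const v k L fun x hx => h x (List.mem_cons_of_mem _ hx)
    simp only [evalM, List.map_cons, List.sum_cons] at ih ⊢
    rw [ih, kval_key, h m List.mem_cons_self]
    push_cast
    ring

theorem evalM_of_zeroM (v : I27 → R) : ∀ (n : ℕ) (L : List Mon), zeroM n L = true → evalM v L = 0
  | _, [], _ => rfl
  | 0, _ :: _, h => by simp [zeroM] at h
  | n + 1, m :: L, h => by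
    simp only [zeroM, Bool.and_eq_true, decide_eq_true_eq] at h
    rw [evalM_split v (fun x => key x == key m), evalM_of_zeroM v n _ h.2,
      evalM_const v (key m) _ fun x hx => by simpa using (List.mem_filter.1 hx).2, h.1]
    simp

theorem evalM_append (v : I27 → R) (L M : List Mon) :
    evalM v (L ++ M) = evalM v L + evalM v M := by
  simp [evalM]

/-- The value of a linear form. -/
def evalL (v : I27 → R) (A : List (ℤ × ℕ)) : R := (A.map fun a => (a.1 : R) * v (pt a.2)).sum

theorem evalM_expand (v : I27 → R) (s : ℤ) (A B C : List (ℤ × ℕ)) :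
    evalM v (expand s A B C) = (s : R) * (evalL v A * evalL v B * evalL v C) := by
  have hC : ∀ a b : ℤ × ℕ, evalM v (C.map fun c => (s * a.1 * b.1 * c.1, a.2, b.2, c.2)) =
      (s : R) * ((a.1 : R) * v (pt a.2) * ((b.1 : R) * v (pt b.2)) * evalL v C) := by
    intro a b
    induction C with
    | nil => simp [evalM, evalL]
    | cons c C ih =>
      simp only [evalM, evalL, List.map_cons, List.sum_cons] at ih ⊢
      rw [ih]; push_cast; ring
  have hB : ∀ a : ℤ × ℕ,
      evalM v (B.flatMap fun b => C.map fun c => (s * a.1 * b.1 * c.1, a.2, b.2, c.2)) =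
      (s : R) * ((a.1 : R) * v (pt a.2) * evalL v B * evalL v C) := by
    intro a
    induction B with
    | nil => simp [evalM, evalL]
    | cons b B ih =>
      rw [List.flatMap_cons, evalM_append, hC, ih]
      simp only [evalL, List.map_cons, List.sum_cons]
      ring
  induction A with
  | nil => simp [evalM, evalL, expand]
  | cons a A ih =>
    rw [expand, List.flatMap_cons, evalM_append, hB, ← expand, ih]
    simp only [evalL, List.map_cons, List.sum_cons]
    ring

theorem evalL_lin0 (v : I27 → R) (a : ℕ) : evalL v (lin0 a) = v (pt a) := by simp [evalL, lin0]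

theorem evalL_linE (v : I27 → R) (r : ℕ) {a : ℕ} (ha : a < 27) :
    evalL v (linE r a) = (eM R (er r) *ᵥ v) (pt a) := by
  rw [eM_mulVec _ (root_spec r).1, ci_pt ha]
  simp [evalL, linE, Function.comp_def]

theorem evalM_flatMap (v : I27 → R) {α : Type*} (f : α → List Mon) (L : List α) :
    evalM v (L.flatMap f) = (L.map fun a => evalM v (f a)).sum := by
  induction L with
  | nil => rfl
  | cons a L ih => rw [List.flatMap_cons, evalM_append, ih, List.map_cons, List.sum_cons]

theorem tris_lt : ∀ e ∈ tris, e.1 < 27 ∧ e.2.1 < 27 ∧ e.2.2.1 < 27 := by decide +kernel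

theorem tF_root (r : ℕ) (t : R) (v : I27 → R) : tF (v + t • (eM R (er r) *ᵥ v)) = tF v := by
  set w := eM R (er r) *ᵥ v with hw
  have h1 : dF v w = evalM v (first r) := by
    rw [first, evalM_flatMap, dF]
    refine congrArg List.sum (List.map_congr_left fun e he => ?_)
    obtain ⟨a, b, c⟩ := tris_lt e he
    simp only [evalM_append, evalM_expand, evalL_lin0, evalL_linE, a, b, c, term, hw]
  have h2 : dF w v = evalM v (second r) := by
    rw [second, evalM_flatMap, dF]
    refine congrArg List.sum (List.map_congr_left fun e he => ?_)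
    obtain ⟨a, b, c⟩ := tris_lt e he
    simp only [evalM_append, evalM_expand, evalL_lin0, evalL_linE, a, b, c, term, hw]
  have h3 : tF w = evalM v (third r) := by
    rw [third, evalM_flatMap, tF]
    refine congrArg List.sum (List.map_congr_left fun e he => ?_)
    obtain ⟨a, b, c⟩ := tris_lt e he
    simp only [evalM_expand, evalL_linE, a, b, c, term, hw]
  obtain ⟨-, -, -, z1, z2, z3⟩ := root_spec r
  rw [tF_add_smul, h1, h2, h3, evalM_of_zeroM v _ _ z1, evalM_of_zeroM v _ _ z2,
    evalM_of_zeroM v _ _ z3]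
  ring

/-! ### The root elements -/

variable {F : Type*} [Field F]

theorem eM_sq (r : ℕ) : eM R (er r) * eM R (er r) = 0 := by
  rw [← eM_mulE _ (root_spec r).1, (root_spec r).2.1, eM_nil]

/-- The root element. -/
def xE (r : ℕ) (t : R) : GL I27 R where
  val := 1 + t • eM R (er r)
  inv := 1 + (-t) • eM R (er r)
  val_inv := by
    simp [mul_add, add_mul, eM_sq, add_assoc]
  inv_val := by
    simp [mul_add, add_mul, eM_sq, add_assoc]

theorem xE_mulVec (r : ℕ) (t : R) (v : I27 → R) :
    (xE r t).val *ᵥ v = v + t • (eM R (er r) *ᵥ v) := by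
  simp [xE, Matrix.add_mulVec, Matrix.smul_mulVec]

theorem xE_zero (r : ℕ) : xE r (0 : R) = 1 := Units.ext (by simp [xE])

/-- The group generated by the root elements. -/
def G27 (F : Type*) [Field F] : Subgroup (GL I27 F) :=
  Subgroup.closure (Set.range fun p : ℕ × F => xE p.1 p.2)

theorem xE_mem (r : ℕ) (t : F) : xE r t ∈ G27 F := Subgroup.subset_closure ⟨(r, t), rfl⟩

theorem xE_mem_univ (r : ℕ) (t : F) : xE r t ∈ E6univ F := by
  intro v
  show cubicT ((xE r t).val *ᵥ v) = _
  rw [xE_mulVec, cubicT_eq, cubicT_eq, tF_root]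

theorem G27_le : G27 F ≤ E6univ F := (Subgroup.closure_le _).2 fun _ ⟨p, e⟩ => e ▸ xE_mem_univ _ _

/-! ### Monomial elements -/

/-- A basis vector. -/
def bv (R : Type*) [CommRing R] (a : ℕ) : I27 → R := Pi.single (pt a) 1

theorem er_nodup (r : ℕ) : (er r).Nodup := by
  by_cases h : r < 72
  · exact (show ∀ m : Fin 72, (er m).Nodup from by decide +kernel) ⟨r, h⟩
  · rw [er_high (Nat.le_of_not_lt h)]; exact List.nodup_nil

theorem col_of_mem {r : ℕ} {b a : ℕ} {s : ℤ} (h : (b, a, s) ∈ er r) :
    eM R (er r) *ᵥ bv R a = (s : R) • bv R b := by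
  obtain ⟨hb, -, hu, -⟩ := root_spec r
  have hlt : b < 27 ∧ a < 27 := by
    have := List.all_eq_true.1 hb _ h
    simpa using this
  funext i
  rw [bv, Matrix.mulVec_single_one, Matrix.col_apply, Pi.smul_apply, smul_eq_mul, eM, Matrix.of_apply,
    ci_pt hlt.2]
  by_cases hi : i = pt b
  · subst hi
    rw [bv, Pi.single_eq_same, mul_one, ci_pt hlt.1]
    congr 1
    have : ∀ L : Ent, (∀ e ∈ L, e.2.1 = a → e = (b, a, s)) → L.Nodup →
        entZ L b a = if (b, a, s) ∈ L then s else 0 := by
      intro L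
      induction L with
      | nil => intros; simp [entZ_nil]
      | cons e L ih =>
        intro hL hn
        obtain ⟨hn1, hn2⟩ := List.nodup_cons.1 hn
        rw [entZ_cons, ih (fun x hx => hL x (List.mem_cons_of_mem _ hx)) hn2]
        by_cases he : e = (b, a, s)
        · subst he; simp [hn1]
        · have : ¬ (e.1 = b ∧ e.2.1 = a) := fun h' => he (hL e List.mem_cons_self h'.2)
          simp [this, Ne.symm he]
    rw [this (er r) (fun e he ha => ((hu e he).2.2 _ h).1 ha) (er_nodup r), if_pos h]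
  · rw [bv, Pi.single_eq_of_ne hi, mul_zero]
    have : ∀ e ∈ er r, ¬ (e.1 = ci i ∧ e.2.1 = a) := fun e he h' => hi (by
      rw [((hu e he).2.2 _ h).1 h'.2] at h'
      rw [← pt_ci i, ← h'.1])
    rw [entZ, List.filter_eq_nil_iff.2 fun e he => by simpa using this e he]
    simp

theorem col_of_not_mem {r a : ℕ} (ha : a < 27) (h : ∀ e ∈ er r, e.2.1 ≠ a) :
    eM R (er r) *ᵥ bv R a = 0 := by
  funext i
  rw [bv, Matrix.mulVec_single_one, Matrix.col_apply, eM, Matrix.of_apply, ci_pt ha, entZ,
    List.filter_eq_nil_iff.2 fun e he => by simpa using fun _ => h e he]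
  simp

theorem sign_sq {r : ℕ} {e : ℕ × ℕ × ℤ} (h : e ∈ er r) : (e.2.2 : R) * (e.2.2 : R) = 1 := by
  rcases ((root_spec r).2.2.1 e h).1 with h' | h' <;> simp [h']

theorem mem_lt {r : ℕ} {e : ℕ × ℕ × ℤ} (h : e ∈ er r) : e.1 < 27 ∧ e.2.1 < 27 := by
  simpa using List.all_eq_true.1 (root_spec r).1 _ h

theorem target_not_source {r : ℕ} {e : ℕ × ℕ × ℤ} (h : e ∈ er r) :
    ∀ f ∈ er r, f.2.1 ≠ e.1 := fun f hf h' => ((root_spec r).2.2.1 e h).2.2 f hf |>.2.2 h'.symm

theorem opp_mem {r : ℕ} {e : ℕ × ℕ × ℤ} (h : e ∈ er r) : (e.2.1, e.1, e.2.2) ∈ er (71 - r) :=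
  ((root_spec r).2.2.1 e h).2.1

/-- The monomial element. -/
def nE (r : ℕ) (c : F) : GL I27 F := xE r c * xE (71 - r) (-c⁻¹) * xE r c

theorem nE_mem (r : ℕ) (c : F) : nE r c ∈ G27 F :=
  mul_mem (mul_mem (xE_mem _ _) (xE_mem _ _)) (xE_mem _ _)

theorem nE_mulVec (r : ℕ) (c : F) (v : I27 → F) :
    (nE r c).val *ᵥ v = (xE r c).val *ᵥ ((xE (71 - r) (-c⁻¹)).val *ᵥ ((xE r c).val *ᵥ v)) := by
  simp [nE, Matrix.mulVec_mulVec, mul_assoc]

theorem nE_source {r b a : ℕ} {s : ℤ} (h : (b, a, s) ∈ er r) {c : F} (hc : c ≠ 0) :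
    (nE r c).val *ᵥ bv F a = (c * s) • bv F b := by
  have ha : eM F (er (71 - r)) *ᵥ bv F a = 0 :=
    col_of_not_mem (mem_lt h).2 (target_not_source (opp_mem h))
  have hb : eM F (er r) *ᵥ bv F b = 0 := col_of_not_mem (mem_lt h).1 (target_not_source h)
  simp only [nE_mulVec, xE_mulVec, col_of_mem h, col_of_mem (opp_mem h), ha, hb,
    Matrix.mulVec_add, Matrix.mulVec_smul, smul_zero, add_zero, smul_smul]
  match_scalars
  all_goals (rcases ((root_spec r).2.2.1 _ h).1 with h' | h' <;> simp only at h' <;> subst h' <;>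
    push_cast <;> field_simp <;> ring)

theorem nE_target {r b a : ℕ} {s : ℤ} (h : (b, a, s) ∈ er r) {c : F} (hc : c ≠ 0) :
    (nE r c).val *ᵥ bv F b = (-(c⁻¹ * s)) • bv F a := by
  have ha : eM F (er (71 - r)) *ᵥ bv F a = 0 :=
    col_of_not_mem (mem_lt h).2 (target_not_source (opp_mem h))
  have hb : eM F (er r) *ᵥ bv F b = 0 := col_of_not_mem (mem_lt h).1 (target_not_source h)
  simp only [nE_mulVec, xE_mulVec, col_of_mem h, col_of_mem (opp_mem h), ha, hb,
    Matrix.mulVec_add, Matrix.mulVec_smul, smul_zero, add_zero, smul_smul]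
  match_scalars
  all_goals (rcases ((root_spec r).2.2.1 _ h).1 with h' | h' <;> simp only at h' <;> subst h' <;>
    push_cast <;> field_simp <;> ring)

theorem nE_fixed {r a : ℕ} (c : F) (ha : a < 27) (h1 : ∀ e ∈ er r, e.2.1 ≠ a)
    (h2 : ∀ e ∈ er (71 - r), e.2.1 ≠ a) : (nE r c).val *ᵥ bv F a = bv F a := by
  simp only [nE_mulVec, xE_mulVec, col_of_not_mem ha h1, col_of_not_mem ha h2, smul_zero,
    add_zero]

end CfsgLib.ESix
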