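import Cfsg.Agent.ESix.Roots

/-!
# The checks of the elimination steps
-/

set_option autoImplicit false
set_option maxHeartbeats 2000000

namespace CfsgLib.ESix

/-! ### The checks -/

/-- The linear form `v ↦ B (e_s, e_l, v)`. -/
def side (s l : ℕ) : List (ℤ × ℕ) :=
  tris.flatMap fun e =>
    ([(e.1, e.2.1, e.2.2.1), (e.1, e.2.2.1, e.2.1), (e.2.1, e.1, e.2.2.1), (e.2.1, e.2.2.1, e.1),
      (e.2.2.1, e.1, e.2.1), (e.2.2.1, e.2.1, e.1)].filter fun p => p.1 == s && p.2.1 == l).map
      fun p => (e.2.2.2, p.2.2)

/-- `side s l` is a signed coordinate. -/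
def sideIs (s l k : ℕ) : Bool := side s l == [(1, k)] || side s l == [(-1, k)]

/-- The quadratic form `v ↦ D (v, e_l)`. -/
def grad (l : ℕ) : List (ℤ × ℕ × ℕ) :=
  tris.flatMap fun e =>
    ([(e.1, e.2.1, e.2.2.1), (e.2.1, e.1, e.2.2.1), (e.2.2.1, e.1, e.2.1)].filter
      fun p => p.1 == l).map fun p => (e.2.2.2, p.2.1, p.2.2)

/-- Coordinates that vanish for the image of `f` when the lines of `S` are fixed. -/
def zeroable (S : List ℕ) (f k : ℕ) : Bool :=
  S.any fun s => ((side s f).isEmpty && (List.range 27).any fun l => sideIs s l k) ||
    S.any fun s' => sideIs s s' k && !(k == f)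

/-- The coordinate reached by a monomial element. -/
def img (r a : ℕ) : ℕ :=
  match (er r).find? fun e => e.2.1 == a with
  | some e => e.1
  | none => match (er (71 - r)).find? fun e => e.2.1 == a with
    | some e => e.1
    | none => a

/-- The neighbours of a step. -/
def nbJ (st : Step) : List ℕ := st.nbs.map Prod.fst

/-- The possible pivots are covered. -/
def chkPivot (S : List ℕ) (st : Step) : Bool :=
  match st.wit with
  | none => (List.range 27).all fun k =>
      S.contains k || zeroable S st.f k || (st.moves.map Prod.fst).contains k
  | some s => S.contains s && !(side s st.f).isEmpty && (List.range 27).all fun l =>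
      (side s l).all fun p => S.contains p.2 || zeroable S st.f p.2 ||
        (st.moves.map Prod.fst).contains p.2

/-- The reflections fix the lines of `S` and lead to `f`. -/
def chkMoves (S : List ℕ) (st : Step) : Bool :=
  st.moves.all fun m => decide (m.1 < 27) && (m.2.foldl (fun a r => img r a) m.1 == st.f) &&
    m.2.all fun r => decide (r < 72) && S.all fun s => img r s == s

/-- The neighbours can be cleared. -/
def chkNb (S : List ℕ) (st : Step) : Bool :=
  decide (nbJ st).Nodup && st.nbs.all fun n =>
    (er n.2.1).contains (n.1, st.f, n.2.2) &&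
      ((er n.2.1).all fun e => !(e.1 == st.f) && (e.1 == n.1 || !(nbJ st).contains e.1)) &&
      (zeroable S st.f n.1 || S.all fun s => (er n.2.1).all fun e => !(e.2.1 == s))

/-- The other coordinates vanish with the neighbours. -/
def chkRest (st : Step) : Bool :=
  (List.range 27).all fun k => k == st.f || (nbJ st).contains k ||
    (List.range 27).any fun l =>
      let G := (grad l).filter fun q => !((nbJ st).contains q.2.1 || (nbJ st).contains q.2.2)
      G == [(1, st.f, k)] || G == [(-1, st.f, k)] || G == [(1, k, st.f)] || G == [(-1, k, st.f)]

/-- The check of a step. -/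
def chkStep (S : List ℕ) (st : Step) : Bool :=
  decide (st.f < 27) && !S.contains st.f && S.all (fun s => decide (s < 27)) && chkPivot S st &&
    chkMoves S st && chkNb S st && chkRest st

/-- The check of all steps. -/
def chkSteps : List ℕ → List Step → Bool
  | S, [] => (List.range 27).all fun k => S.contains k
  | S, st :: L => chkStep S st && chkSteps (S ++ [st.f]) L

theorem steps_ok : chkSteps [] steps = true := by decide +kernel

theorem tris_distinct :
    ∀ e ∈ tris, e.1 ≠ e.2.1 ∧ e.1 ≠ e.2.2.1 ∧ e.2.1 ≠ e.2.2.1 := by decide +kernel

/-- A pair of coordinates lies in at most one triangle. -/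
theorem side_tbl : (List.range 27).all (fun s => (List.range 27).all fun l =>
    match side s l with
    | [] => true
    | [(c, k)] => decide (k < 27) && (c == 1 || c == -1) && side s k == [(c, l)]
    | _ => false) = true := by
  decide +kernel

/-- The monomial elements permute the coordinates in pairs. -/
theorem img_tbl : (List.range 72).all (fun r => (List.range 27).all fun a => img r (img r a) == a) =
    true := by
  decide +kernel

end CfsgLib.ESix
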