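import Cfsg.Agent.ESix.Elim

/-!
# Diagonal isometries are torus elements; the isometry group is generated by root elements
-/

set_option autoImplicit false
set_option maxHeartbeats 2000000

namespace CfsgLib.ESix

open Cfsg.Lie
open scoped MatrixGroups Matrix

/-- The pairing of the weight of a coordinate with a coroot. -/
def pw (r a : ℕ) : ℤ :=
  if (er r).any fun e => e.2.1 == a then -1
  else if (er (71 - r)).any fun e => e.2.1 == a then 1 else 0

/-- A fundamental root. -/
def simp6 (i : ℕ) : ℕ := chevE6SimpleIdx.getD i 0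

/-- An entry of the table of weights. -/
def wtE (k i : ℕ) : ℤ := (wtTab.getD k []).getD i 0

/-- An entry of the inverse of the six weights. -/
def invE (i j : ℕ) : ℤ := (sixInv.getD i []).getD j 0

/-- The data of the torus are consistent. -/
def chkTorus : Bool :=
  ((List.range 6).all fun i => decide (simp6 i < 72) &&
    (List.range 27).all fun a => pw (simp6 i) a == wtE a i) &&
  ((List.range 6).all fun k => decide (six.getD k 0 < 27) && (List.range 6).all fun j =>
    ((List.range 6).map fun i => wtE (six.getD k 0) i * invE i j).sum == (if k = j then 1 else 0)) &&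
  ((List.range 6).all fun i => (List.range 6).all fun i' =>
    ((List.range 6).map fun k => invE i k * wtE (six.getD k 0) i').sum == (if i = i' then 1 else 0))

/-- The triangles reach every coordinate. -/
def chkProp : List ℕ → List (ℕ × ℕ × ℕ) → Bool
  | K, [] => (List.range 27).all fun k => K.contains k
  | K, p :: L => K.contains p.1 && K.contains p.2.1 && sideIs p.1 p.2.1 p.2.2 &&
      decide (p.2.2 < 27) && chkProp (K ++ [p.2.2]) L

theorem torus_ok : chkTorus = true := by decide +kernel

theorem propag_ok : chkProp ((List.range 6).map fun k => six.getD k 0) propag = true := by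
  decide +kernel

variable {F : Type*} [Field F]

/-- The torus element. -/
def hE (r : ℕ) (c : F) : GL I27 F := nE r c * nE r (-1)

theorem hE_mulVec {r a : ℕ} (hr : r < 72) (ha : a < 27) {c : F} (hc : c ≠ 0) :
    (hE r c).val *ᵥ bv F a = (c ^ pw r a) • bv F a := by
  have h1 : (-1 : F) ≠ 0 := neg_ne_zero.2 one_ne_zero
  rw [hE, mv_mul]
  unfold pw
  split_ifs with hs ht
  · obtain ⟨e, he, e'⟩ := List.any_eq_true.1 hs
    simp only [beq_iff_eq] at e'
    subst e'
    rw [nE_source he h1, Matrix.mulVec_smul, nE_target he hc, smul_smul, zpow_neg_one]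
    congr 1
    have := sign_sq (R := F) he
    linear_combination c⁻¹ * this
  · obtain ⟨e, he, e'⟩ := List.any_eq_true.1 ht
    simp only [beq_iff_eq] at e'
    subst e'
    have ho := opp_mem he
    rw [show 71 - (71 - r) = r by omega] at ho
    rw [nE_target ho h1, Matrix.mulVec_smul, nE_source ho hc, smul_smul, zpow_one]
    congr 1
    have := sign_sq (R := F) he
    rw [inv_neg, inv_one]
    linear_combination c * this
  · simp only [List.any_eq_true, beq_iff_eq, not_exists, not_and] at hs ht
    rw [nE_fixed _ ha hs ht, nE_fixed _ ha hs ht, zpow_zero, one_smul]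

theorem fixed_propagate {g : GL I27 F}
    (hinv : ∀ u v x, bF (g.val *ᵥ u) (g.val *ᵥ v) (g.val *ᵥ x) = bF u v x)
    (hlines : ∀ k < 27, ∃ c : F, g.val *ᵥ bv F k = c • bv F k) :
    ∀ (L : List (ℕ × ℕ × ℕ)) (K : List ℕ), (∀ k ∈ K, k < 27) →
      (∀ k ∈ K, g.val *ᵥ bv F k = bv F k) → chkProp K L = true →
      ∀ k < 27, g.val *ᵥ bv F k = bv F k := by
  intro L
  induction L with
  | nil =>
    intro K _ hK h k hk
    simp only [chkProp, List.all_eq_true, List.mem_range, List.contains_iff_mem] at h
    exact hK k (h k hk)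
  | cons p L ih =>
    intro K hlt hK h
    simp only [chkProp, Bool.and_eq_true, List.contains_iff_mem, decide_eq_true_eq] at h
    obtain ⟨⟨⟨⟨ha, hb⟩, hs⟩, hc⟩, hrest⟩ := h
    refine ih _ (fun k hk => ?_) (fun k hk => ?_) hrest
    · rcases List.mem_append.1 hk with hk | hk
      · exact hlt k hk
      · rw [List.mem_singleton] at hk; exact hk ▸ hc
    · rcases List.mem_append.1 hk with hk | hk
      · exact hK k hk
      · rw [List.mem_singleton] at hk
        subst hk
        obtain ⟨c, ec⟩ := hlines _ hc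
        have e := hinv (bv F p.1) (bv F p.2.1) (bv F p.2.2)
        rw [hK _ ha, hK _ hb, ec, bF_smul_right, bF_side _ _ (hlt _ ha) (hlt _ hb)] at e
        rcases sideIs_eval hs (bv F p.2.2) with e' | e' <;>
          · rw [e'] at e
            simp [bv] at e
            rw [ec, e, one_smul]

theorem prod_zpow_range {G : Type*} [CommGroup G] (c : G) (f : ℕ → ℤ) (n : ℕ) :
    ∏ i ∈ Finset.range n, c ^ f i = c ^ ∑ i ∈ Finset.range n, f i := by
  induction n with
  | zero => simp
  | succ n ih => rw [Finset.prod_range_succ, Finset.sum_range_succ, ih, zpow_add]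

theorem diagonal_mem {t₀ : F} (h0 : t₀ ≠ 0) (h1 : t₀ ≠ 1) {g : GL I27 F} (hg : g ∈ E6univ F)
    (hfix : Fixes g (List.range 27)) : g ∈ G27 F := by
  classical
  have hl : ∀ k : ℕ, ∃ c : Fˣ, k < 27 → g.val *ᵥ bv F k = (c : F) • bv F k := fun k => by
    by_cases hk : k < 27
    · obtain ⟨c, hc, e⟩ := hfix k (List.mem_range.2 hk)
      exact ⟨Units.mk0 c hc, fun _ => e⟩
    · exact ⟨1, fun h => absurd h hk⟩
  choose l hl using hl
  have ht := torus_ok
  simp only [chkTorus, Bool.and_eq_true, List.all_eq_true, List.mem_range, decide_eq_true_eq,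
    beq_iff_eq] at ht
  obtain ⟨⟨hsimp, hsix⟩, -⟩ := ht
  let t : ℕ → Fˣ := fun i => ((List.range 6).map fun j => l (six.getD j 0) ^ invE i j).prod
  let H : ℕ → GL I27 F := fun n => ((List.range n).map fun i => hE (simp6 i) ((t i : Fˣ) : F)).prod
  have hH : ∀ n ≤ 6, H n ∈ G27 F ∧ ∀ a < 27, (H n).val *ᵥ bv F a =
      (((∏ i ∈ Finset.range n, t i ^ wtE a i : Fˣ)) : F) • bv F a := by
    intro n
    induction n with
    | zero => exact fun _ => ⟨by simp [H], fun a _ => by simp [H]⟩
    | succ n ih =>
      intro hn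
      obtain ⟨hm, ha⟩ := ih (Nat.le_of_succ_le hn)
      have e : H (n + 1) = H n * hE (simp6 n) ((t n : Fˣ) : F) := by simp [H, List.range_succ]
      refine ⟨e ▸ mul_mem hm (mul_mem (nE_mem _ _) (nE_mem _ _)), fun a ha27 => ?_⟩
      obtain ⟨hs, hw⟩ := hsimp n (by omega)
      rw [e, mv_mul, hE_mulVec hs ha27 (t n).ne_zero, hw a ha27, Matrix.mulVec_smul, ha a ha27,
        smul_smul, Finset.prod_range_succ, Units.val_mul, Units.val_zpow_eq_zpow_val, mul_comm]
  obtain ⟨hm, hval⟩ := hH 6 le_rfl
  have hlist : ∀ (n : ℕ) (f : ℕ → Fˣ),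
      ((List.range n).map f).prod = ∏ i ∈ Finset.range n, f i := fun n f => rfl
  have hexp : ∀ k < 6, (∏ i ∈ Finset.range 6, t i ^ wtE (six.getD k 0) i) = l (six.getD k 0) := by
    intro k hk
    simp only [t, hlist, ← Finset.prod_zpow, ← zpow_mul]
    rw [Finset.prod_comm, Finset.prod_eq_single k]
    · rw [prod_zpow_range]
      have := (hsix k hk).2 k hk
      rw [if_pos rfl] at this
      rw [show ∑ x ∈ Finset.range 6, invE x k * wtE (six.getD k 0) x = 1 from ?_, zpow_one]
      rw [← this]
      exact Finset.sum_congr rfl fun i _ => mul_comm _ _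
    · intro j hj hjk
      rw [prod_zpow_range]
      have := (hsix k hk).2 j (Finset.mem_range.1 hj)
      rw [if_neg (Ne.symm hjk)] at this
      rw [show ∑ x ∈ Finset.range 6, invE x j * wtE (six.getD k 0) x = 0 from ?_, zpow_zero]
      rw [← this]
      exact Finset.sum_congr rfl fun i _ => mul_comm _ _
    · intro h; exact absurd (Finset.mem_range.2 hk) h
  set d := (H 6)⁻¹ * g with hd
  have hdu : d ∈ E6univ F := mul_mem (inv_mem (G27_le hm)) hg
  have hdline : ∀ a < 27, d.val *ᵥ bv F a =
      (((∏ i ∈ Finset.range 6, t i ^ wtE a i)⁻¹ * l a : Fˣ) : F) • bv F a := by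
    intro a ha
    have h2 := congrArg (fun v => (((∏ i ∈ Finset.range 6, t i ^ wtE a i)⁻¹ : Fˣ) : F) •
      ((H 6)⁻¹.val *ᵥ v)) (hval a ha)
    simp only [← mv_mul, inv_mul_cancel, Matrix.mulVec_smul, smul_smul, Units.inv_mul,
      one_smul] at h2
    rw [Units.val_one, Matrix.one_mulVec] at h2
    rw [hd, mv_mul, hl a ha, Matrix.mulVec_smul, ← h2, smul_smul, Units.val_mul, mul_comm]
  have hd1 : ∀ k < 27, d.val *ᵥ bv F k = bv F k := by
    refine fixed_propagate (univ_invariant h0 h1 hdu).2 (fun k hk => ⟨_, hdline k hk⟩) propag _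
      (fun k hk => ?_) (fun k hk => ?_) propag_ok
    · obtain ⟨j, hj, rfl⟩ := List.mem_map.1 hk
      exact (hsix j (List.mem_range.1 hj)).1
    · obtain ⟨j, hj, rfl⟩ := List.mem_map.1 hk
      rw [hdline _ (hsix j (List.mem_range.1 hj)).1, hexp j (List.mem_range.1 hj), inv_mul_cancel,
        Units.val_one, one_smul]
  have : d = 1 := Units.ext (Matrix.ext fun i j => by
    have := congrFun (hd1 (ci j) (ci_lt j)) i
    rw [bv, pt_ci, Matrix.mulVec_single_one, Matrix.col_apply] at this
    rw [this, Units.val_one, Matrix.one_apply, Pi.single_apply])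
  rw [hd, inv_mul_eq_one] at this
  exact this ▸ hm

/-- The isometry group of the form is generated by the root elements. -/
theorem univ_eq {t₀ : F} (h0 : t₀ ≠ 0) (h1 : t₀ ≠ 1) : E6univ F = G27 F := by
  refine le_antisymm (fun g hg => ?_) G27_le
  obtain ⟨h, hh, hfix⟩ := exists_diagonal h0 h1 hg
  have := mul_mem (inv_mem hh) (diagonal_mem h0 h1 (mul_mem (G27_le hh) hg) hfix)
  rwa [inv_mul_cancel_left] at this

end CfsgLib.ESix
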